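import Cfsg.Agent.Lib.Lie.CharTwo.Main

/-!
# The tree of normal forms of involutions of type F4
-/

set_option autoImplicit false
set_option maxRecDepth 100000
set_option maxHeartbeats 4000000

namespace CfsgLib.Lie.CharTwo

/-- part of the tree -/
def treeF4_0 : Node :=
  .branch (.branch (.branch (.branch (.branch (.branch (.branch (.branch (.leaf [] [] 0) (.leaf [([0, 0, 0, 1], 0)] [] 1)) (.clear 46 24 (.leaf [([0, 0, 0, -1], 0)] [3] 1))) (.clear 45 25 (.clear 45 26 (.leaf [([0, 0, -1, 0], 0)] [3, 2] 1)))) (.branch (.branch (.branch (.leaf [([1, 0, 0, 0], 0)] [] 2) (.leaf [([1, 0, 0, 0], 0), ([0, 0, 0, 1], 0)] [] 3)) (.clear 46 24 (.leaf [([1, 0, 0, 0], 0), ([0, 0, 0, -1], 0)] [3] 3))) (.clear 45 25 (.clear 45 26 (.leaf [([1, 0, 0, 0], 0), ([0, 0, -1, 0], 0)] [3, 2] 3))))) (.clear 43 27 (.branch (.clear 43 30 (.clear 43 31 (.leaf [([0, 0, 1, 0], 0)] [3,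 2, 1] 1))) (.clear 45 25 (.clear 45 26 (.leaf [([1, 0, 0, 0], 1), ([1, 1, 0, 0], 1)] [] 5)))))) (.clear 42 25 (.clear 42 28 (.clear 42 30 (.branch (.clear 42 32 (.leaf [([0, 0, -1, 0], 0)] [3, 2, 1, 2] 1)) (.clear 46 24 (.leaf [([1, 0, 0, 0], 1), ([1, 0, 0, -2], 1)] [2] 5))))))) (.clear 41 24 (.clear 41 26 (.clear 41 29 (.clear 41 31 (.clear 41 32 (.branch (.leaf [([0, 0, 0, -1], 0)] [3, 2, 1, 2, 3] 1) (.leaf [([1, 0, 0, 0], 1), ([1, 0, 0, 2], 1)] [2, 3] 5)))))))) (.branch (.branch (.branch (.clear 40 33 (.branch (.branch (.branch (.leaf [([-1, 0, 0, 0], 0)] [0] 2) (.leaf [([-1, 0, 0, 0], 0), ([0, 0, 0, 1], 0)] [0] 3)) (.clear 46 24 (.leaf [([-1, 0, 0, 0], 0), ([0, 0, 0, -1], 0)] [0, 3] 3))) (.clear 45 25 (.clear 45 26 (.leaf [([-1, 0, 0, 0], 0), ([0, 0, -1, 0], 0)] [0, 3, 2] 3))))) (.clear 43 27 (.branch (.clear 43 30 (.clear 43 31 (.leaf [([-1, 0, 2, 0],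 0), ([0, 0, 1, 0], 0)] [1] 4))) (.clear 45 25 (.clear 45 26 (.leaf [([0, 1, 2, 0], 0), ([1, 1, 2, 0], 1), ([1, 1, 0, 0], 1)] [] 6)))))) (.clear 42 25 (.clear 42 28 (.clear 42 30 (.branch (.clear 42 32 (.leaf [([0, 1, 0, 0], 0), ([0, 0, -1, 0], 0)] [1, 2] 4)) (.clear 46 24 (.leaf [([0, 1, 0, 0], 0), ([1, 1, 0, 0], 1), ([1, 1, 0, -2], 1)] [2] 6))))))) (.clear 41 24 (.clear 41 26 (.clear 41 29 (.clear 41 31 (.clear 41 32 (.branch (.leaf [([0, 1, 0, 0], 0), ([0, 0, 0, -1], 0)] [1, 2, 3] 4) (.leaf [([0, 1, 0, 0], 0), ([1, 1, 0, 0], 1), ([1, 1, 0, 2], 1)] [2, 3] 6))))))))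

/-- part of the tree -/
def treeF4_1 : Node :=
  .branch (.branch (treeF4_0) (.clear 39 27 (.branch (.branch (.branch (.clear 39 34 (.branch (.branch (.branch (.leaf [([0, -1, 0, 0], 0)] [0, 1] 2) (.leaf [([0, -1, 0, 0], 0), ([0, 0, 0, 1], 0)] [0, 1] 3)) (.clear 46 24 (.leaf [([0, -1, 0, 0], 0), ([0, 0, 0, -1], 0)] [0, 1, 3] 3))) (.clear 45 25 (.clear 45 26 (.leaf [([0, 1, 2, 0], 0), ([0, 1, 1, 0], 0)] [] 4))))) (.clear 39 34 (.branch (.clear 43 30 (.clear 43 31 (.leaf [([-1, -1, 0, 0], 0), ([0, -1, -1, 0], 0)] [0, 3, 2, 1] 3))) (.clear 45 25 (.clear 45 26 (.leaf [([0, 1, 2, 0], 0), ([1, 0, 0, 0], 1), ([1, 2, 2, 0], 1)] [1] 6)))))) (.clear 42 25 (.clear 42 28 (.clear 42 30 (.branch (.clear 42 32 (.leaf [([0, -1, 0, 0], 0), ([0, 0, 0, 1], 0)] [1, 2, 1] 4)) (.clear 46 24 (.leaf [([0, -1, 0, 0], 0), ([1, 0, 0, 0], 1), ([1, 0, 0, -2], 1)] [2, 1] 6))))))) (.clear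 41 24 (.clear 41 26 (.clear 41 29 (.clear 41 31 (.clear 41 32 (.branch (.leaf [([0, -1, 0, 0], 0), ([0, 0, 0, -1], 0)] [1, 2, 1, 3] 4) (.leaf [([0, -1, 0, 0], 0), ([1, 0, 0, 0], 1), ([1, 0, 0, 2], 1)] [2, 1, 3] 6)))))))))) (.clear 38 25 (.clear 38 28 (.branch (.branch (.branch (.clear 38 35 (.branch (.branch (.branch (.leaf [([0, 0, -1, 0], 0)] [0, 1, 2] 2) (.leaf [([0, 0, -1, 0], 0), ([0, -1, 0, 1], 0)] [0, 1, 2] 3)) (.clear 46 24 (.leaf [([0, 1, 0, 0], 0), ([0, 1, 0, -1], 0)] [2] 4))) (.branch (.clear 45 26 (.leaf [([0, 0, 0, 1], 0), ([0, 0, -1, -1], 0)] [0, 1, 3, 2] 3)) (.clear 46 24 (.leaf [([0, 1, 2, 2], 0), ([0, 0, -1, -1], 0), ([0, 1, 2, 1], 0)] [] 7))))) (.clear 43 27 (.branch (.clear 43 30 (.clear 43 31 (.leaf [([0, 0, 0, 1], 0), ([0, -1, -1, 0], 0)] [1, 2, 1, 2] 4))) (.clear 43 30 (.clear 45 26 (.leaf [([0, 0, 0, 1], 0), ([1, 0, 0, 0], 1), ([1, 1,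 0, -1], 1)] [2, 1, 2] 6)))))) (.branch (.clear 38 35 (.clear 42 30 (.branch (.clear 42 32 (.leaf [([0, 1, 0, 0], 0), ([0, -1, -1, 0], 0)] [0, 3, 2, 1, 2] 3)) (.clear 46 24 (.leaf [([0, 1, 0, 0], 0), ([1, 0, 0, 0], 1), ([1, 2, 0, -2], 1)] [1, 2] 6))))) (.clear 43 27 (.clear 42 30 (.branch (.clear 43 31 (.leaf [([-1, -1, 0, 2], 0), ([1, 1, 0, -1], 0), ([0, 0, 1, 1], 0)] [1, 2, 1] 7)) (.clear 46 24 (.leaf [([0, 1, 2, 2], 0), ([1, 0, -2, -2], 1), ([0, 0, 1, 1], 0), ([1, 2, 2, 0], 1)] [] 10))))))) (.clear 41 24 (.clear 41 26 (.clear 41 29 (.clear 41 31 (.clear 41 32 (.branch (.leaf [([0, 0, -1, 0], 0), ([0, 0, -1, -1], 0)] [1, 2, 1, 3, 2] 4) (.leaf [([0, 0, -1, 0], 0), ([1, 0, 0, 0], 1), ([1, -2, 0, 2], 1)] [2, 1, 3, 2] 6))))))))))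

/-- part of the tree -/
def treeF4_2 : Node :=
  .branch (.clear 36 27 (.clear 36 28 (.clear 36 30 (.branch (.branch (.branch (.clear 36 37 (.branch (.branch (.branch (.leaf [([0, -1, 0, 0], 0)] [0, 1, 2, 1] 2) (.leaf [([0, -1, 0, 0], 0), ([-1, 0, 0, 1], 0)] [0, 1, 2, 1] 3)) (.clear 46 24 (.leaf [([0, -1, 0, 0], 0), ([0, 0, 1, 0], 0)] [2, 1] 4))) (.clear 45 25 (.clear 45 26 (.leaf [([0, 0, 0, 1], 0), ([0, 0, -1, 0], 0)] [2, 1, 2] 4))))) (.clear 36 37 (.branch (.branch (.clear 43 31 (.leaf [([0, 0, 0, 1], 0), ([0, 0, 1, 0], 0)] [0, 1, 3, 2, 1] 3)) (.clear 46 24 (.leaf [([-1, 0, 2, 2], 0), ([0, -1, -1, -1], 0), ([-1, 0, 2, 1], 0)] [1] 7))) (.clear 45 25 (.clear 45 26 (.leaf [([0, 0, 0, 1], 0), ([1, 0, 0, -1], 1), ([1, 1, 0, 0], 1)] [1, 2, 1, 2] 6)))))) (.clear 42 25 (.clear 36 37 (.branch (.branch (.clear 42 32 (.leaf [([0, -1, 0, 0], 0), ([0, 0, -1, 0], 0)]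 [0, 1, 3, 2, 1, 2] 3)) (.clear 46 24 (.leaf [([0, -1, 0, 0], 0), ([1, 1, 0, 0], 1), ([1, 0, 1, -1], 1)] [1, 2, 1] 6))) (.branch (.clear 45 26 (.leaf [([-1, 0, 0, 2], 0), ([1, 0, 0, -1], 0), ([-1, 0, -1, 1], 0)] [1, 2] 7)) (.clear 46 24 (.leaf [([0, 1, 2, 2], 0), ([1, -1, -2, -2], 1), ([0, 1, 1, 1], 0), ([1, 1, 2, 0], 1)] [1] 10))))))) (.clear 41 24 (.clear 41 26 (.clear 41 29 (.clear 41 31 (.clear 41 32 (.branch (.leaf [([0, -1, 0, 0], 0), ([0, -1, 0, -1], 0)] [1, 2, 1, 3, 2, 1] 4) (.leaf [([0, -1, 0, 0], 0), ([1, 1, 0, 0], 1), ([1, 3, 0, 2], 1)] [2, 1, 3, 2, 1] 6))))))))))) (.clear 37 24 (.clear 37 26 (.clear 37 29 (.branch (.branch (.branch (.clear 37 36 (.dead 36 37 44)) (.clear 37 36 (.dead 36 37 44))) (.clear 42 25 (.clear 37 36 (.dead 36 37 44)))) (.branch (.branch (.clear 37 36 (.dead 36 37 44)) (.clear 37 36 (.dead 36 37 44))) (.clear 42 25 (.clear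 37 36 (.dead 36 37 44))))))))

/-- part of the tree -/
def treeF4_3 : Node :=
  .branch (.branch (treeF4_1) (.clear 37 24 (.clear 37 26 (.clear 37 29 (.branch (.branch (.branch (.clear 37 36 (.branch (.branch (.branch (.leaf [([0, 0, 0, -1], 0)] [0, 1, 2, 3] 2) (.leaf [([0, 1, 0, 0], 0), ([0, 1, 0, 1], 0)] [2, 3] 4)) (.branch (.leaf [([0, 1, 0, 0], 0), ([0, 0, 1, 0], 0)] [0, 1, 2, 3] 3) (.leaf [([0, 1, 0, 0], 0), ([0, 0, 1, 0], 0), ([0, 1, 1, 1], 0)] [3, 2] 7))) (.clear 45 25 (.branch (.leaf [([0, 0, 0, -1], 0), ([0, 0, -1, 0], 0)] [0, 1, 2, 3, 2] 3) (.leaf [([0, 1, 2, 0], 0), ([0, 0, -1, 0], 0), ([0, 1, 2, 1], 0)] [3] 7))))) (.clear 43 27 (.branch (.clear 43 30 (.clear 43 31 (.leaf [([0, 0, 0, -1], 0), ([0, 0, 1, 0], 0)] [1, 2, 1, 2, 3] 4))) (.clear 45 25 (.clear 43 31 (.leaf [([0, 0, 0, -1], 0), ([1, 0, 0, 0], 1), ([1, 0, -2, 0], 1)] [2, 1, 2, 3] 6))))))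 (.clear 42 25 (.clear 42 28 (.clear 42 30 (.branch (.clear 42 32 (.leaf [([0, 1, 0, 0], 0), ([0, 0, -1, 0], 0)] [1, 2, 1, 2, 3, 2] 4)) (.clear 42 32 (.leaf [([0, 1, 0, 0], 0), ([1, 0, 0, 0], 1), ([1, 0, 2, 0], 1)] [2, 1, 2, 3, 2] 6))))))) (.branch (.branch (.clear 37 36 (.clear 41 31 (.clear 41 32 (.branch (.leaf [([0, 1, 0, 0], 0), ([0, -1, 0, -1], 0)] [0, 3, 2, 1, 2, 3] 3) (.leaf [([0, 1, 0, 0], 0), ([1, 0, 0, 0], 1), ([1, 2, 0, 2], 1)] [1, 2, 3] 6))))) (.clear 43 27 (.clear 41 31 (.clear 43 30 (.branch (.leaf [([0, 1, 2, 0], 0), ([1, 1, 0, 1], 0), ([0, 0, 1, 0], 0)] [1, 2, 1, 3] 7) (.leaf [([0, 1, 2, 0], 0), ([1, 0, -2, 0], 1), ([0, 0, 1, 0], 0), ([1, 2, 2, 2], 1)] [3] 10)))))) (.clear 42 25 (.clear 42 28 (.clear 42 30 (.clear 41 32 (.branch (.leaf [([0, 1, 0, 0], 0), ([0, -1, -1, -1], 0), ([0, 0, -1, 0], 0)] [1, 2, 1, 3, 2] 7) (.leaf [([0, 1, 0, 0], 0),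 ([1, 0, 2, 0], 1), ([0, 0, -1, 0], 0), ([1, 2, 4, 2], 1)] [3, 2] 10)))))))))))) (treeF4_2)

/-- part of the tree -/
def treeF4_4 : Node :=
  .branch (.clear 35 29 (.clear 35 31 (.branch (.branch (.branch (.clear 35 38 (.branch (.branch (.branch (.leaf [([0, -1, 0, 0], 0)] [0, 1, 2, 1, 3] 2) (.leaf [([0, -1, 0, 0], 0), ([0, -1, 0, 1], 0)] [2, 1, 3] 4)) (.branch (.leaf [([0, -1, 0, 0], 0), ([-1, 0, 0, -1], 0)] [0, 1, 2, 1, 3] 3) (.leaf [([0, -1, 0, 0], 0), ([-1, 0, 1, 0], 0), ([0, 0, 1, 1], 0)] [3, 2, 1] 7))) (.clear 45 25 (.clear 45 26 (.leaf [([0, 0, 0, -1], 0), ([0, 0, -1, -1], 0)] [2, 1, 2, 3] 4))))) (.clear 35 38 (.branch (.clear 43 30 (.branch (.leaf [([0, 0, 0, -1], 0), ([0, -1, -1, 0], 0)] [0, 1, 2, 3, 2, 1] 3) (.leaf [([-1, 0, 2, 0], 0), ([0, -1, -1, 0], 0), ([-1, 0, 2, 1], 0)] [1, 3] 7))) (.clear 45 25 (.clear 45 26 (.leaf [([0, 0, 0, -1], 0), ([1,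 0, 0, 1], 1), ([1, 1, 0, 0], 1)] [1, 2, 1, 2, 3] 6)))))) (.clear 42 25 (.clear 42 28 (.clear 42 30 (.branch (.clear 42 32 (.leaf [([0, -1, 0, 0], 0), ([0, -1, -1, 0], 0)] [1, 2, 1, 2, 3, 2, 1] 4)) (.clear 42 32 (.leaf [([0, -1, 0, 0], 0), ([1, 1, 0, 0], 1), ([1, 3, 0, -2], 1)] [2, 1, 2, 3, 2, 1] 6))))))) (.branch (.clear 41 26 (.clear 35 38 (.branch (.clear 41 32 (.branch (.leaf [([0, -1, 0, 0], 0), ([0, 0, -1, -1], 0)] [0, 1, 3, 2, 1, 2, 3] 3) (.leaf [([0, -1, 0, 0], 0), ([1, 0, -1, 0], 1), ([1, -1, 0, 2], 1)] [1, 2, 1, 3] 6))) (.clear 45 25 (.branch (.leaf [([-1, 0, 0, -2], 0), ([1, 0, 0, 1], 0), ([0, 1, 1, 0], 0)] [1, 2, 3] 7) (.leaf [([0, 1, 2, 0], 0), ([1, -1, -2, 0], 1), ([0, 1, 1, 0], 0), ([1, 1, 2, 2], 1)] [1, 3] 10)))))) (.clear 42 25 (.clear 42 28 (.clear 42 30 (.clear 41 32 (.branch (.leaf [([0, -1, 0, 0], 0), ([0, 0, -1, -1], 0), ([0, -1, -1, 0],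 0)] [1, 2, 1, 3, 2, 1] 7) (.leaf [([0, -1, 0, 0], 0), ([1, 3, 2, 0], 1), ([0, -1, -1, 0], 0), ([1, 3, 4, 2], 1)] [3, 2, 1] 10)))))))))) (.clear 38 25 (.clear 38 28 (.branch (.branch (.branch (.clear 38 35 (.dead 35 38 44)) (.clear 38 35 (.dead 35 38 44))) (.branch (.clear 38 35 (.dead 35 38 44)) (.clear 38 35 (.dead 35 38 44)))) (.branch (.clear 41 26 (.clear 38 35 (.dead 35 38 44))) (.clear 41 26 (.clear 38 35 (.dead 35 38 44)))))))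

/-- part of the tree -/
def treeF4_5 : Node :=
  .branch (.clear 34 32 (.branch (.branch (.branch (.clear 34 39 (.branch (.branch (.branch (.leaf [([0, 0, -1, 0], 0)] [0, 1, 2, 1, 3, 2] 2) (.leaf [([0, 0, -1, 0], 0), ([0, 0, 0, 1], 0)] [2, 1, 3, 2] 4)) (.clear 46 24 (.leaf [([0, 1, 0, 0], 0), ([0, 0, 0, -1], 0)] [2, 1, 2, 3, 2] 4))) (.branch (.branch (.leaf [([1, 0, 0, 0], 0), ([-1, 0, -1, 0], 0)] [0, 1, 2, 1, 3, 2] 3) (.leaf [([1, 0, 0, 0], 0), ([-1, 0, -1, 0], 0), ([0, 0, 0, 1], 0)] [3, 2, 1, 2] 7)) (.clear 46 24 (.leaf [([1, 0, 0, 0], 0), ([-1, 0, -1, -1], 0), ([0, 0, 0, -1], 0)] [3, 2, 1, 2, 3] 7))))) (.clear 43 27 (.branch (.clear 43 30 (.clear 43 31 (.leaf [([0, -1, -2, 0], 0), ([0, -1, -1, 0], 0)] [1, 2, 1, 2, 3, 2, 1, 2] 4))) (.clear 43 30 (.clear 43 31 (.leaf [([0, -1, -2, 0], 0), ([1, 1, 2, 0], 1), ([1, 3, 4, 0], 1)] [2, 1, 2, 3, 2, 1, 2] 6))))))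 (.branch (.clear 34 39 (.clear 42 30 (.branch (.branch (.leaf [([0, 1, 0, 0], 0), ([0, 0, 0, 1], 0)] [0, 1, 2, 3, 2, 1, 2] 3) (.leaf [([0, 1, 0, 0], 0), ([0, -1, -1, 0], 0), ([-1, 0, -1, 1], 0)] [1, 3, 2] 7)) (.clear 46 24 (.leaf [([0, 1, 0, 0], 0), ([1, -1, 0, 0], 1), ([1, 0, 1, -1], 1)] [1, 2, 1, 2, 3, 2] 6))))) (.clear 43 27 (.clear 42 30 (.branch (.clear 43 31 (.leaf [([0, -1, -2, -2], 0), ([0, 0, 0, 1], 0), ([0, -1, -1, -1], 0)] [1, 2, 1, 3, 2, 1, 2, 3] 7)) (.clear 46 24 (.leaf [([0, -1, -2, -2], 0), ([1, 3, 4, 4], 1), ([0, -1, -1, -1], 0), ([1, 3, 4, 2], 1)] [3, 2, 1, 2, 3] 10))))))) (.clear 41 24 (.branch (.clear 34 39 (.clear 41 31 (.branch (.branch (.leaf [([0, 0, -1, 0], 0), ([0, 0, 0, -1], 0)] [0, 1, 2, 3, 2, 1, 2, 3] 3) (.leaf [([0, 0, -1, 0], 0), ([1, -1, 0, 0], 1), ([1, -1, 0, 2], 1)] [1, 2, 1, 3, 2] 6)) (.branch (.leaf [([0, 1, 0, 0], 0), ([0,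 -1, -1, -1], 0), ([0, 1, 1, 0], 0)] [1, 2, 3, 2] 7) (.leaf [([0, 1, 0, 0], 0), ([1, -1, 0, 0], 1), ([0, 1, 1, 0], 0), ([1, 1, 2, 2], 1)] [1, 3, 2] 10))))) (.clear 43 27 (.clear 41 31 (.clear 43 30 (.branch (.leaf [([0, -1, -2, 0], 0), ([0, 0, 0, -1], 0), ([0, -1, -1, 0], 0)] [1, 2, 1, 3, 2, 1, 2] 7) (.leaf [([0, -1, -2, 0], 0), ([1, 3, 4, 0], 1), ([0, -1, -1, 0], 0), ([1, 3, 4, 2], 1)] [3, 2, 1, 2] 10))))))))) (.clear 39 27 (.branch (.branch (.branch (.clear 39 34 (.dead 34 39 44)) (.clear 39 34 (.dead 34 39 44))) (.branch (.clear 39 34 (.dead 34 39 44)) (.clear 39 34 (.dead 34 39 44)))) (.clear 41 24 (.branch (.clear 39 34 (.dead 34 39 44)) (.clear 39 34 (.dead 34 39 44))))))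

/-- part of the tree -/
def treeF4_6 : Node :=
  .branch (.branch (.branch (.branch (.clear 33 40 (.branch (.branch (.branch (.leaf [([0, -1, 0, 0], 0)] [0, 1, 2, 1, 3, 2, 1] 2) (.leaf [([0, -1, 0, 0], 0), ([0, 0, 0, 1], 0)] [2, 1, 3, 2, 1] 4)) (.clear 46 24 (.leaf [([0, -1, 0, 0], 0), ([0, 0, 0, -1], 0)] [2, 1, 2, 3, 2, 1] 4))) (.clear 45 25 (.clear 45 26 (.leaf [([0, -1, -2, 0], 0), ([0, 0, -1, 0], 0)] [2, 1, 2, 3, 2, 1, 2] 4))))) (.clear 33 40 (.branch (.branch (.branch (.leaf [([1, 1, 0, 0], 0), ([0, 0, 1, 0], 0)] [0, 1, 2, 1, 3, 2, 1] 3) (.leaf [([1, 1, 0, 0], 0), ([0, 0, 1, 0], 0), ([0, 0, 0, 1], 0)] [1, 3, 2, 1, 2] 7)) (.clear 46 24 (.leaf [([1, 1, 0, 0], 0), ([0, 0, 1, 1], 0), ([0, 0, 0, -1], 0)] [1, 3, 2, 1, 2, 3] 7))) (.clear 45 25 (.clear 45 26 (.leaf [([0, -1, -2, 0], 0), ([1, 2, 4, 0], 1), ([1, 2, 2, 0], 1)] [1, 2, 1, 2, 3, 2, 1, 2] 6)))))) (.clear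 42 25 (.clear 33 40 (.branch (.branch (.branch (.leaf [([0, -1, 0, 0], 0), ([0, 0, -1, 0], 0)] [0, 1, 2, 1, 3, 2, 1, 2] 3) (.leaf [([0, -1, 0, 0], 0), ([0, 0, -1, 0], 0), ([0, 0, 1, 1], 0)] [1, 3, 2, 1] 7)) (.clear 46 24 (.leaf [([0, -1, 0, 0], 0), ([1, 2, 0, 0], 1), ([1, 2, 0, -2], 1)] [1, 2, 1, 2, 3, 2, 1] 6))) (.branch (.clear 45 26 (.leaf [([1, 1, 2, 0], 0), ([0, 0, 0, 1], 0), ([0, 0, -1, -1], 0)] [1, 2, 3, 2, 1, 2, 3] 7)) (.clear 46 24 (.leaf [([0, -1, -2, -2], 0), ([1, 2, 4, 4], 1), ([0, 0, -1, -1], 0), ([1, 2, 4, 2], 1)] [1, 3, 2, 1, 2, 3] 10))))))) (.clear 41 24 (.clear 41 26 (.clear 33 40 (.branch (.branch (.branch (.leaf [([0, -1, 0, 0], 0), ([0, 0, 0, -1], 0)] [0, 1, 2, 1, 3, 2, 1, 2, 3] 3) (.leaf [([0, -1, 0, 0], 0), ([1, 2, 0, 0], 1), ([1, 2, 0, 2], 1)] [1, 2, 1, 3, 2, 1] 6)) (.branch (.leaf [([0, -1, 0, 0], 0), ([0, 0, -1, -1], 0), ([0, 0, 1,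 0], 0)] [1, 2, 3, 2, 1] 7) (.leaf [([0, -1, 0, 0], 0), ([1, 2, 0, 0], 1), ([0, 0, 1, 0], 0), ([1, 2, 2, 2], 1)] [1, 3, 2, 1] 10))) (.clear 45 25 (.branch (.leaf [([0, -1, -2, 0], 0), ([0, 0, 0, -1], 0), ([0, 0, -1, 0], 0)] [1, 2, 3, 2, 1, 2] 7) (.leaf [([0, -1, -2, 0], 0), ([1, 2, 4, 0], 1), ([0, 0, -1, 0], 0), ([1, 2, 4, 2], 1)] [1, 3, 2, 1, 2] 10)))))))) (.branch (.branch (.branch (.clear 40 33 (.dead 33 40 44)) (.clear 40 33 (.dead 33 40 44))) (.clear 42 25 (.clear 40 33 (.dead 33 40 44)))) (.clear 41 24 (.clear 41 26 (.clear 40 33 (.dead 33 40 44)))))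

/-- part of the tree -/
def treeF4_7 : Node :=
  .branch (.clear 32 33 (.clear 32 34 (.branch (.branch (.branch (.branch (.branch (.clear 32 41 (.clear 32 42 (.leaf [([0, 0, 1, 0], 0)] [3, 2, 1, 0] 1))) (.clear 45 25 (.clear 45 26 (.leaf [([-1, 0, 0, 0], 1), ([0, 1, 0, 0], 1)] [0] 5)))) (.branch (.clear 32 41 (.clear 32 42 (.leaf [([0, 0, 1, 0], 0), ([1, 0, 2, 0], 0)] [1, 0] 4))) (.clear 45 25 (.clear 45 26 (.leaf [([0, 1, 2, 0], 1), ([1, 1, 2, 0], 0), ([0, 1, 0, 0], 1)] [0] 6))))) (.clear 43 27 (.branch (.clear 43 30 (.clear 43 31 (.leaf [([-1, -1, 0, 0], 1), ([0, -1, 0, 0], 1)] [0, 1] 5))) (.clear 45 25 (.clear 45 26 (.leaf [([0, 1, 2, 0], 1), ([1, 1, 2, 0], 1), ([1, 2, 2, 0], 1)] [] 8)))))) (.clear 42 25 (.clear 42 28 (.clear 42 30 (.clear 32 41 (.clear 42 32 (.dead 32 42 47))))))) (.clear 41 24 (.clear 41 26 (.clear 41 29 (.clear 41 31 (.clear 41 32 (.dead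 32 41 46))))))))) (.clear 38 25 (.clear 38 28 (.branch (.branch (.branch (.clear 38 35 (.branch (.clear 32 41 (.clear 32 42 (.leaf [([0, 0, 1, 1], 0), ([0, 0, 0, 1], 0)] [1, 2, 1, 0, 2] 4))) (.clear 32 41 (.clear 45 26 (.leaf [([-1, 0, 0, 0], 1), ([0, 0, 0, 1], 0), ([0, 1, 0, -1], 1)] [2, 1, 0, 2] 6))))) (.clear 43 27 (.branch (.clear 43 30 (.clear 43 31 (.leaf [([-1, -1, 0, 1], 1), ([0, 0, 0, 1], 0), ([0, -1, 0, 1], 1)] [] 9))) (.clear 43 30 (.clear 45 26 (.leaf [([0, 1, 2, 1], 1), ([0, 0, 0, 1], 0), ([1, 1, 2, 1], 1), ([1, 2, 2, 0], 1)] [] 11)))))) (.branch (.clear 38 35 (.clear 42 30 (.clear 32 41 (.clear 42 32 (.dead 32 42 47))))) (.clear 43 27 (.clear 42 30 (.clear 32 41 (.clear 43 31 (.dead 32 42 47))))))) (.clear 41 24 (.clear 41 26 (.clear 41 29 (.clear 41 31 (.clear 41 32 (.dead 32 41 46)))))))))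

/-- part of the tree -/
def treeF4_8 : Node :=
  .branch (.clear 36 27 (.clear 36 28 (.clear 36 30 (.branch (.branch (.branch (.clear 36 37 (.branch (.clear 32 41 (.clear 32 42 (.leaf [([0, 0, 1, 0], 0), ([0, -1, 0, 0], 0)] [1, 2, 1, 0, 2, 1] 4))) (.clear 45 25 (.clear 45 26 (.leaf [([-1, 0, 0, 1], 1), ([0, 0, 0, 1], 0), ([0, 1, 0, 1], 1)] [1] 9))))) (.clear 36 37 (.branch (.clear 32 41 (.clear 43 31 (.leaf [([-1, -1, 0, 0], 1), ([0, 0, 0, 1], 0), ([0, -1, 0, -1], 1)] [2, 1, 0, 2, 1] 6))) (.clear 45 25 (.clear 45 26 (.leaf [([0, 1, 2, 1], 1), ([0, 0, 0, 1], 0), ([1, 1, 2, 0], 1), ([1, 2, 2, 1], 1)] [1] 11)))))) (.clear 42 25 (.clear 36 37 (.branch (.clear 32 41 (.clear 42 32 (.dead 32 42 47))) (.clear 32 41 (.clear 45 26 (.dead 32 42 47))))))) (.clear 41 24 (.clear 41 26 (.clear 41 29 (.clear 41 31 (.clear 41 32 (.dead 32 41 46)))))))))) (.clear 37 24 (.clear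 37 26 (.clear 37 29 (.branch (.branch (.branch (.clear 37 36 (.dead 36 37 44)) (.clear 37 36 (.dead 36 37 44))) (.clear 42 25 (.clear 37 36 (.dead 36 37 44)))) (.branch (.branch (.clear 37 36 (.dead 36 37 44)) (.clear 37 36 (.dead 36 37 44))) (.clear 42 25 (.clear 37 36 (.dead 36 37 44))))))))

/-- part of the tree -/
def treeF4_9 : Node :=
  .branch (.clear 35 29 (.clear 35 31 (.branch (.branch (.branch (.clear 35 38 (.branch (.clear 32 41 (.clear 32 42 (.leaf [([0, 0, 1, 1], 0), ([0, -1, 0, 0], 0)] [1, 2, 1, 0, 2, 1, 3] 4))) (.clear 45 25 (.clear 45 26 (.leaf [([-1, 0, 0, -1], 1), ([0, 0, 0, -1], 0), ([0, 1, 0, -1], 1)] [1, 3] 9))))) (.clear 35 38 (.branch (.clear 43 30 (.clear 32 42 (.leaf [([-1, -1, 0, 0], 1), ([0, 0, 0, -1], 0), ([0, -1, 0, 1], 1)] [2, 1, 0, 2, 1, 3] 6))) (.clear 45 25 (.clear 45 26 (.leaf [([0, 1, 2, 1], 1), ([0, 0, 0, -1], 0), ([1,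 1, 2, 2], 1), ([1, 2, 2, 1], 1)] [1, 3] 11)))))) (.clear 42 25 (.clear 42 28 (.clear 42 30 (.clear 32 41 (.clear 42 32 (.dead 32 42 47))))))) (.branch (.clear 41 26 (.clear 35 38 (.branch (.clear 41 32 (.dead 32 41 46)) (.clear 45 25 (.dead 32 41 46))))) (.clear 42 25 (.clear 42 28 (.clear 42 30 (.clear 41 32 (.dead 32 41 46))))))))) (.clear 38 25 (.clear 38 28 (.branch (.branch (.branch (.clear 38 35 (.dead 35 38 44)) (.clear 38 35 (.dead 35 38 44))) (.branch (.clear 38 35 (.dead 35 38 44)) (.clear 38 35 (.dead 35 38 44)))) (.branch (.clear 41 26 (.clear 38 35 (.dead 35 38 44))) (.clear 41 26 (.clear 38 35 (.dead 35 38 44)))))))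

/-- part of the tree -/
def treeF4_10 : Node :=
  .branch (.branch (.branch (.branch (.branch (treeF4_7) (.clear 37 24 (.clear 37 26 (.clear 37 29 (.branch (.branch (.branch (.clear 37 36 (.branch (.clear 32 41 (.clear 32 42 (.leaf [([0, 0, 1, 0], 0), ([0, 0, 0, -1], 0)] [1, 2, 1, 0, 2, 3] 4))) (.clear 45 25 (.clear 32 42 (.leaf [([-1, 0, 0, 0], 1), ([0, 0, 0, -1], 0), ([0, 1, 0, 1], 1)] [2, 1, 0, 2, 3] 6))))) (.clear 43 27 (.branch (.clear 43 30 (.clear 43 31 (.leaf [([-1, -1, 0, -1], 1), ([0, 0, 0, -1], 0), ([0, -1, 0, -1], 1)] [3] 9))) (.clear 45 25 (.clear 43 31 (.leaf [([0, 1, 2, 1], 1), ([0, 0, 0, -1], 0), ([1, 1, 2, 1], 1), ([1, 2, 2, 2], 1)] [3] 11)))))) (.clear 42 25 (.clear 42 28 (.clear 42 30 (.clear 32 41 (.clear 42 32 (.dead 32 42 47))))))) (.branch (.branch (.clear 37 36 (.clear 41 31 (.clear 41 32 (.dead 32 41 46)))) (.clear 43 27 (.clear 41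 31 (.clear 43 30 (.dead 32 41 46))))) (.clear 42 25 (.clear 42 28 (.clear 42 30 (.clear 41 32 (.dead 32 41 46))))))))))) (treeF4_8)) (.clear 35 24 (.clear 35 27 (treeF4_9)))) (.clear 34 25 (.clear 34 26 (.clear 34 28 (.clear 34 29 (.clear 32 33 (.clear 34 32 (.dead 32 34 40)))))))) (.clear 33 27 (.clear 33 28 (.clear 33 29 (.clear 33 30 (.clear 33 31 (.clear 33 32 (.dead 32 33 39)))))))

/-- part of the tree -/
def treeF4_11 : Node :=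
  .branch (.clear 31 35 (.branch (.branch (.branch (.branch (.clear 31 41 (.branch (.clear 31 43 (.leaf [([0, 0, -1, 0], 0)] [3, 2, 1, 0, 2] 1)) (.clear 46 24 (.leaf [([-1, 0, 0, 0], 1), ([-1, 0, 0, -2], 1)] [0, 2] 5)))) (.clear 31 41 (.branch (.clear 31 43 (.leaf [([0, 0, -1, 0], 0), ([1, 1, 0, 0], 0)] [1, 0, 2] 4)) (.clear 46 24 (.leaf [([0, 1, 0, 0], 1), ([1, 1, 0, 0], 0), ([0, 1, 0, -2], 1)] [0, 2] 6))))) (.clear 43 27 (.clear 31 41 (.clear 43 30 (.clear 43 31 (.dead 31 43 47)))))) (.branch (.clear 42 28 (.clear 42 30 (.branch (.clear 42 32 (.leaf [([0, 1, 0, 0], 1), ([1, 1, 0, 0], 1)] [0, 1, 2] 5)) (.clear 46 24 (.leaf [([0, 1, 0, 0], 1), ([1, 1, 0, 0], 1), ([1, 2, 0, -2], 1)] [2] 8))))) (.clear 43 27 (.clear 42 30 (.branch (.clear 43 31 (.dead 31 43 47)) (.clear 46 24 (.dead 31 43 47))))))) (.clear 41 24 (.clear 41 26 (.clear 41 29 (.clear 41 31 (.dead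 31 41 45))))))) (.clear 39 27 (.branch (.branch (.branch (.clear 39 34 (.clear 31 41 (.branch (.clear 31 43 (.leaf [([0, 0, 0, 1], 0), ([-1, -1, 0, 0], 0)] [1, 2, 1, 0] 4)) (.clear 46 24 (.leaf [([-1, 0, 0, 0], 1), ([-1, -1, 0, 0], 0), ([-1, 0, 0, -2], 1)] [2, 1, 0] 6))))) (.clear 39 34 (.clear 31 41 (.clear 43 30 (.clear 43 31 (.dead 31 43 47)))))) (.branch (.clear 42 28 (.clear 42 30 (.branch (.clear 42 32 (.leaf [([0, 1, 1, 1], 1), ([0, 0, 1, 1], 0), ([0, -1, -1, 1], 1)] [2] 9)) (.clear 46 24 (.leaf [([0, 1, 1, 1], 1), ([0, 0, 1, 1], 0), ([1, 1, 1, 1], 1), ([1, 2, 2, 0], 1)] [2] 11))))) (.clear 42 28 (.clear 42 30 (.branch (.clear 43 31 (.dead 31 43 47)) (.clear 46 24 (.dead 31 43 47))))))) (.clear 41 24 (.clear 41 26 (.clear 41 29 (.clear 41 31 (.dead 31 41 45)))))))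

/-- part of the tree -/
def treeF4_12 : Node :=
  .branch (.clear 36 27 (.clear 36 28 (.clear 36 30 (.branch (.branch (.branch (.clear 36 37 (.clear 31 41 (.branch (.clear 31 43 (.leaf [([0, 0, -1, 0], 0), ([0, 0, 1, 1], 0)] [1, 2, 1, 0, 2, 1, 2] 4)) (.clear 46 24 (.leaf [([-1, 0, 1, 1], 1), ([0, 0, 1, 1], 0), ([-1, 0, 3, 1], 1)] [1, 2] 9))))) (.clear 36 37 (.clear 31 41 (.branch (.clear 43 31 (.dead 31 43 47)) (.clear 46 24 (.dead 31 43 47)))))) (.branch (.clear 36 37 (.clear 31 41 (.branch (.clear 42 32 (.leaf [([0, 1, 1, 1], 1), ([0, 0, 1, 1], 0), ([1, 1, 0, 0], 1)] [2, 1, 0, 2, 1, 2] 6)) (.clear 46 24 (.leaf [([0, 1, 1, 1], 1), ([0, 0, 1, 1], 0), ([1, 1, 0, 0], 1), ([1, 2, 3, 1], 1)] [1, 2] 11))))) (.clear 36 37 (.clear 31 41 (.branch (.clear 43 31 (.dead 31 43 47)) (.clear 46 24 (.dead 31 43 47))))))) (.clear 41 24 (.clear 41 26 (.clear 41 29 (.clear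 41 31 (.dead 31 41 45))))))))) (.clear 37 24 (.clear 37 26 (.clear 37 29 (.branch (.branch (.branch (.clear 37 36 (.dead 36 37 44)) (.clear 37 36 (.dead 36 37 44))) (.branch (.clear 37 36 (.dead 36 37 44)) (.clear 37 36 (.dead 36 37 44)))) (.branch (.branch (.clear 37 36 (.dead 36 37 44)) (.clear 37 36 (.dead 36 37 44))) (.branch (.clear 37 36 (.dead 36 37 44)) (.clear 37 36 (.dead 36 37 44))))))))

/-- part of the tree -/
def treeF4_13 : Node :=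
  .branch (.branch (.branch (.clear 31 33 (treeF4_11)) (.clear 37 24 (.clear 37 26 (.clear 37 29 (.branch (.branch (.branch (.clear 37 36 (.clear 31 41 (.branch (.clear 31 43 (.leaf [([0, 0, -1, 0], 0), ([0, 0, -1, -1], 0)] [1, 2, 1, 0, 2, 3, 2] 4)) (.clear 31 43 (.leaf [([-1, 0, 0, 0], 1), ([0, 0, -1, -1], 0), ([-1, 0, 2, 0], 1)] [2, 1, 0, 2, 3, 2] 6))))) (.clear 43 27 (.clear 31 41 (.clear 43 30 (.clear 43 31 (.dead 31 43 47)))))) (.branch (.clear 42 28 (.clear 42 30 (.branch (.clear 42 32 (.leaf [([0, 1, 1, 1], 1), ([0, 0, -1, -1], 0), ([1, 1, 1, 1], 1)] [3, 2] 9)) (.clear 42 32 (.leaf [([0, 1, 1, 1], 1), ([0, 0, -1, -1], 0), ([1, 1, 1, 1], 1), ([1, 2, 4, 2], 1)] [3, 2] 11))))) (.clear 43 27 (.clear 42 30 (.branch (.clear 43 31 (.dead 31 43 47)) (.clear 43 31 (.dead 31 43 47))))))) (.branch (.branch (.clear 37 36 (.clear 41 31 (.dead 31 41 45))) (.clear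 43 27 (.clear 41 31 (.dead 31 41 45)))) (.branch (.clear 42 28 (.clear 42 30 (.dead 31 41 45))) (.clear 43 27 (.clear 42 30 (.dead 31 41 45)))))))))) (treeF4_12)) (.clear 35 24 (.clear 35 27 (.clear 31 33 (.clear 35 29 (.clear 35 31 (.dead 31 35 40))))))

/-- part of the tree -/
def treeF4_14 : Node :=
  .clear 34 29 (.branch (.clear 34 32 (.branch (.branch (.branch (.clear 34 39 (.clear 31 41 (.branch (.clear 31 43 (.leaf [([0, 0, 0, 1], 0), ([0, 0, -1, -1], 0)] [1, 2, 1, 0, 2, 1, 3, 2] 4)) (.clear 46 24 (.leaf [([-1, 0, -1, -1], 1), ([0, 0, -1, -1], 0), ([0, 1, 1, -1], 1)] [1, 3, 2] 9))))) (.clear 43 27 (.clear 31 41 (.clear 43 30 (.clear 43 31 (.dead 31 43 47)))))) (.branch (.clear 34 39 (.clear 42 30 (.branch (.clear 31 43 (.leaf [([0, 1, 1, 1], 1), ([0, 0, -1, -1], 0), ([0, -1, -1, 1], 1)] [2, 1, 0, 2, 1, 3, 2] 6)) (.clear 46 24 (.leaf [([0, 1, 1, 1],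 1), ([0, 0, -1, -1], 0), ([1, 1, 2, 2], 1), ([1, 2, 3, 1], 1)] [1, 3, 2] 11))))) (.clear 43 27 (.clear 42 30 (.branch (.clear 43 31 (.dead 31 43 47)) (.clear 46 24 (.dead 31 43 47))))))) (.clear 41 24 (.branch (.clear 34 39 (.clear 41 31 (.dead 31 41 45))) (.clear 43 27 (.clear 41 31 (.dead 31 41 45))))))) (.clear 39 27 (.branch (.branch (.branch (.clear 39 34 (.dead 34 39 44)) (.clear 39 34 (.dead 34 39 44))) (.branch (.clear 39 34 (.dead 34 39 44)) (.clear 39 34 (.dead 34 39 44)))) (.clear 41 24 (.branch (.clear 39 34 (.dead 34 39 44)) (.clear 39 34 (.dead 34 39 44)))))))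

/-- part of the tree -/
def treeF4_15 : Node :=
  .branch (.clear 30 36 (.branch (.branch (.branch (.branch (.clear 30 42 (.clear 30 43 (.branch (.leaf [([0, 0, 0, -1], 0)] [3, 2, 1, 0, 2, 3] 1) (.leaf [([-1, 0, 0, 0], 1), ([-1, 0, 0, 2], 1)] [0, 2, 3] 5)))) (.clear 30 42 (.clear 30 43 (.branch (.leaf [([0, 0, 0, -1], 0), ([1, 1, 0, 0], 0)] [1, 0, 2, 3] 4) (.leaf [([0, 1, 0, 0], 1), ([1, 1, 0, 0], 0), ([0, 1, 0, 2], 1)] [0, 2, 3] 6))))) (.clear 43 27 (.clear 30 42 (.clear 43 30 (.dead 30 43 46))))) (.clear 42 25 (.clear 42 28 (.clear 42 30 (.dead 30 42 45))))) (.branch (.branch (.clear 41 29 (.clear 41 31 (.clear 41 32 (.branch (.leaf [([0, 1, 0, 0], 1), ([1, 1, 0, 0], 1)] [0, 1, 2, 3] 5) (.leaf [([0, 1, 0, 0], 1), ([1, 1, 0, 0], 1), ([1, 2, 0, 2], 1)] [2, 3] 8))))) (.clear 43 27 (.clear 41 31 (.clear 43 30 (.dead 30 43 46))))) (.clear 42 25 (.clear 42 28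 (.clear 42 30 (.dead 30 42 45))))))) (.clear 39 27 (.branch (.branch (.branch (.clear 39 34 (.clear 30 42 (.clear 30 43 (.branch (.leaf [([0, 0, 0, -1], 0), ([0, 0, 1, 0], 0)] [1, 2, 1, 0, 3] 4) (.leaf [([-1, 0, 0, 0], 1), ([0, 0, 1, 0], 0), ([-1, 0, 0, 2], 1)] [2, 1, 0, 3] 6))))) (.clear 39 34 (.clear 30 42 (.clear 43 30 (.dead 30 43 46))))) (.clear 42 25 (.clear 42 28 (.clear 42 30 (.dead 30 42 45))))) (.branch (.branch (.clear 41 29 (.clear 41 31 (.clear 41 32 (.branch (.leaf [([0, 1, 1, 0], 1), ([0, 0, 1, 0], 0), ([1, 1, 1, 0], 1)] [2, 3] 9) (.leaf [([0, 1, 1, 0], 1), ([0, 0, 1, 0], 0), ([1, 1, 1, 0], 1), ([1, 2, 2, 2], 1)] [2, 3] 11))))) (.clear 41 29 (.clear 41 31 (.clear 43 30 (.dead 30 43 46))))) (.clear 42 25 (.clear 42 28 (.clear 42 30 (.dead 30 42 45)))))))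

/-- part of the tree -/
def treeF4_16 : Node :=
  .branch (.clear 35 29 (.clear 35 31 (.branch (.branch (.branch (.clear 35 38 (.clear 30 42 (.clear 30 43 (.branch (.leaf [([0, 0, -1, -1], 0), ([0, 0, 1, 0], 0)] [1, 2, 1, 0, 2, 1, 2, 3] 4) (.leaf [([-1, 0, 1, 0], 1), ([0, 0, 1, 0], 0), ([-1, 0, 3, 2], 1)] [1, 2, 3] 9))))) (.clear 35 38 (.clear 30 42 (.clear 43 30 (.dead 30 43 46))))) (.clear 42 25 (.clear 42 28 (.clear 42 30 (.dead 30 42 45))))) (.branch (.branch (.clear 35 38 (.clear 30 42 (.clear 41 32 (.branch (.leaf [([0, 1, 1, 0], 1), ([0, 0, 1, 0], 0), ([1, 1, 0, 0], 1)] [2, 1, 0, 2, 1, 2, 3] 6) (.leaf [([0, 1, 1, 0], 1), ([0, 0, 1, 0], 0), ([1, 1, 0, 0], 1), ([1, 2, 3, 2], 1)] [1, 2, 3] 11))))) (.clear 35 38 (.clear 30 42 (.clear 43 30 (.dead 30 43 46))))) (.clear 42 25 (.clear 42 28 (.clear 42 30 (.dead 30 42 45)))))))) (.clear 38 25 (.clear 38 28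 (.branch (.branch (.branch (.clear 38 35 (.dead 35 38 44)) (.clear 38 35 (.dead 35 38 44))) (.branch (.clear 38 35 (.dead 35 38 44)) (.clear 38 35 (.dead 35 38 44)))) (.branch (.branch (.clear 38 35 (.dead 35 38 44)) (.clear 38 35 (.dead 35 38 44))) (.branch (.clear 38 35 (.dead 35 38 44)) (.clear 38 35 (.dead 35 38 44)))))))

/-- part of the tree -/
def treeF4_17 : Node :=
  .branch (.branch (.clear 30 33 (.branch (treeF4_15) (.clear 38 25 (.clear 38 28 (.branch (.branch (.branch (.clear 38 35 (.clear 30 42 (.clear 30 43 (.branch (.leaf [([0, 0, -1, -1], 0), ([0, 0, -1, 0], 0)] [1, 2, 1, 0, 3, 2] 4) (.leaf [([-1, 0, 0, 0], 1), ([0, 0, -1, 0], 0), ([-1, 0, 2, 2], 1)] [2, 1, 0, 3, 2] 6))))) (.clear 43 27 (.clear 30 42 (.clear 43 30 (.dead 30 43 46))))) (.branch (.clear 38 35 (.clear 42 30 (.dead 30 42 45))) (.clear 43 27 (.clear 42 30 (.dead 30 42 45))))) (.branch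 (.branch (.clear 41 29 (.clear 41 31 (.clear 41 32 (.branch (.leaf [([0, 1, 1, 0], 1), ([0, 0, -1, 0], 0), ([1, 1, 1, 0], 1)] [2, 3, 2] 9) (.leaf [([0, 1, 1, 0], 1), ([0, 0, -1, 0], 0), ([1, 1, 1, 0], 1), ([1, 2, 4, 2], 1)] [2, 3, 2] 11))))) (.clear 43 27 (.clear 41 31 (.clear 43 30 (.dead 30 43 46))))) (.branch (.clear 41 29 (.clear 42 30 (.dead 30 42 45))) (.clear 43 27 (.clear 42 30 (.dead 30 42 45)))))))))) (.clear 30 33 (.clear 36 27 (.clear 36 28 (.clear 36 30 (.dead 30 36 40)))))) (.branch (.clear 35 27 (treeF4_16)) (.clear 35 27 (.branch (.clear 36 28 (.clear 36 30 (.dead 30 36 40))) (.clear 38 25 (.clear 36 30 (.dead 30 36 40))))))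

/-- part of the tree -/
def treeF4_18 : Node :=
  .branch (.clear 34 32 (.branch (.branch (.branch (.clear 34 39 (.clear 30 42 (.clear 30 43 (.branch (.leaf [([0, 0, 0, -1], 0), ([0, 0, -1, 0], 0)] [1, 2, 1, 0, 2, 1, 2, 3, 2] 4) (.leaf [([-1, 0, -1, 0], 1), ([0, 0, -1, 0], 0), ([-1, 0, -1, 2], 1)] [1, 2, 3, 2] 9))))) (.clear 43 27 (.clear 30 42 (.clear 43 30 (.dead 30 43 46))))) (.branch (.clear 34 39 (.clear 42 30 (.dead 30 42 45))) (.clear 43 27 (.clear 42 30 (.dead 30 42 45))))) (.branch (.branch (.clear 34 39 (.clear 41 31 (.clear 30 43 (.branch (.leaf [([0, 1, 1, 0], 1), ([0, 0, -1, 0], 0), ([0, -1, -1, -2], 1)] [2, 1, 0, 2, 1, 2, 3, 2] 6) (.leaf [([0, 1, 1, 0], 1), ([0, 0, -1, 0], 0), ([1, 1, 2, 0], 1), ([1, 2, 3, 2], 1)] [1, 2, 3, 2] 11))))) (.clear 43 27 (.clear 41 31 (.clear 43 30 (.dead 30 43 46))))) (.branch (.clear 34 39 (.clear 42 30 (.dead 30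 42 45))) (.clear 43 27 (.clear 42 30 (.dead 30 42 45))))))) (.clear 39 27 (.branch (.branch (.branch (.clear 39 34 (.dead 34 39 44)) (.clear 39 34 (.dead 34 39 44))) (.branch (.clear 39 34 (.dead 34 39 44)) (.clear 39 34 (.dead 34 39 44)))) (.branch (.branch (.clear 39 34 (.dead 34 39 44)) (.clear 39 34 (.dead 34 39 44))) (.branch (.clear 39 34 (.dead 34 39 44)) (.clear 39 34 (.dead 34 39 44))))))

/-- part of the tree -/
def treeF4_19 : Node :=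
  .branch (.branch (.branch (.branch (.branch (.branch (treeF4_3) (.clear 35 24 (.clear 35 27 (treeF4_4)))) (.clear 34 25 (.clear 34 26 (.clear 34 28 (.clear 34 29 (treeF4_5)))))) (.clear 33 27 (.clear 33 28 (.clear 33 29 (.clear 33 30 (.clear 33 31 (.clear 33 32 (treeF4_6)))))))) (treeF4_10)) (.clear 31 25 (.branch (.branch (treeF4_13) (.branch (.clear 34 26 (.clear 34 28 (treeF4_14))) (.clear 35 24 (.clear 35 27 (.clear 34 29 (.branch (.clear 35 31 (.dead 31 35 40)) (.clear 35 31 (.dead 31 35 40)))))))) (.clear 33 27 (.clear 33 28 (.clear 33 29 (.clear 33 30 (.clear 33 31 (.dead 31 33 38))))))))) (.clear 30 24 (.clear 30 26 (.branch (.branch (treeF4_17) (.clear 34 25 (.branch (.clear 34 28 (.clear 34 29 (treeF4_18))) (.clear 34 28 (.clear 36 27 (.branch (.clear 36 30 (.dead 30 36 40)) (.clear 36 30 (.dead 30 36 40)))))))) (.clear 33 27 (.clear 33 28 (.clear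 33 29 (.clear 33 30 (.dead 30 33 37))))))))

/-- part of the tree -/
def treeF4_20 : Node :=
  .branch (.branch (.branch (.clear 29 33 (.branch (.clear 29 34 (.clear 29 35 (.clear 29 37 (.branch (.branch (.branch (.clear 29 41 (.branch (.branch (.branch (.leaf [([-1, 0, 0, 0], 0)] [0, 1, 2, 1, 0] 2) (.leaf [([-1, 0, 0, 0], 0), ([1, 0, 0, 1], 0)] [0, 1, 2, 1, 0] 3)) (.clear 46 24 (.leaf [([-1, 0, 0, 0], 0), ([0, 0, 1, 0], 0)] [2, 1, 0] 4))) (.clear 45 25 (.clear 45 26 (.leaf [([-1, 0, 0, 0], 0), ([0, 0, -1, 0], 0)] [2, 1, 0, 2] 4))))) (.clear 43 27 (.branch (.clear 43 30 (.clear 43 31 (.leaf [([0, 0, 0, 1], 0), ([0, 0, 1, 0], 0)] [2, 1, 0, 2, 1] 4))) (.clear 45 25 (.clear 45 26 (.leaf [([0, 0, 0, 1], 0), ([1, 0, 0, 1], 1), ([1, 1, 0, 1], 1)] [1, 0] 9)))))) (.clear 42 25 (.clear 42 28 (.clear 42 30 (.branch (.clear 42 32 (.leaf [([0, 0, 1, 1], 0), ([0, 0, -1,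 0], 0)] [2, 1, 0, 2, 1, 2] 4)) (.clear 46 24 (.leaf [([0, 0, 1, 1], 0), ([1, 0, 1, 1], 1), ([1, 0, 3, 1], 1)] [1, 0, 2] 9))))))) (.clear 41 24 (.clear 41 26 (.clear 41 29 (.dead 29 41 44)))))))) (.clear 37 24 (.clear 37 26 (.clear 37 29 (.dead 29 37 40)))))) (.clear 35 24 (.clear 35 27 (.clear 29 34 (.clear 35 29 (.dead 29 35 39)))))) (.clear 34 25 (.clear 34 26 (.clear 34 28 (.clear 34 29 (.dead 29 34 38)))))) (.clear 33 27 (.clear 33 28 (.clear 33 29 (.dead 29 33 36))))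

/-- part of the tree -/
def treeF4_21 : Node :=
  .branch (treeF4_20) (.branch (.branch (.branch (.clear 29 33 (.branch (.clear 29 34 (.clear 29 35 (.clear 29 37 (.branch (.branch (.branch (.clear 29 41 (.branch (.branch (.clear 32 42 (.leaf [([0, 0, 0, 1], 0), ([0, 0, 1, 0], 0)] [0, 1, 3, 2, 1, 0] 3)) (.clear 46 24 (.leaf [([1, 0, 2, 2], 0), ([-1, 0, -1, -1], 0), ([1, 0, 2, 1], 0)] [1, 0] 7))) (.clear 45 25 (.clear 45 26 (.leaf [([0, 0, 0, 1], 0), ([-1, 0, 0, -1], 1), ([0, 1, 0, 0], 1)] [1, 2, 1, 0, 2] 6))))) (.clear 43 27 (.branch (.clear 43 30 (.clear 43 31 (.leaf [([0, 0, 0, 1], 0), ([-1, -1, 0, -1], 1), ([0, -1, 0, 0], 1)] [1, 2, 1, 0, 2, 1] 6))) (.clear 45 25 (.clear 45 26 (.leaf [([0, 0, 0, 1], 0), ([0, 1, 2, 0], 1), ([1, 1, 2, 1], 1), ([1, 2, 2, 1], 1)] [1, 0] 11)))))) (.clear 42 25 (.clear 42 28 (.clear 42 30 (.branch (.clear 42 32 (.dead 32 42 47))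 (.clear 46 24 (.dead 32 42 47))))))) (.clear 41 24 (.clear 41 26 (.clear 41 29 (.dead 29 41 44)))))))) (.clear 37 24 (.clear 37 26 (.clear 37 29 (.dead 29 37 40)))))) (.clear 35 24 (.clear 35 27 (.clear 29 34 (.clear 35 29 (.dead 29 35 39)))))) (.clear 34 25 (.clear 34 26 (.clear 34 28 (.clear 34 29 (.dead 29 34 38)))))) (.clear 33 27 (.clear 33 28 (.clear 33 29 (.dead 29 33 36)))))

/-- part of the tree -/
def treeF4_22 : Node :=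
  .branch (.branch (.clear 29 33 (.branch (.clear 29 34 (.clear 29 35 (.clear 29 37 (.branch (.branch (.branch (.clear 29 41 (.branch (.branch (.clear 31 43 (.leaf [([-1, -1, 0, 0], 0), ([0, 0, -1, 0], 0)] [0, 1, 3, 2, 1, 0, 2] 3)) (.clear 46 24 (.leaf [([-1, -1, 0, 0], 0), ([0, 1, 0, 0], 1), ([-1, 0, 1, -1], 1)] [1, 2, 1, 0] 6))) (.branch (.clear 45 26 (.leaf [([1, 0, 0, 2], 0), ([-1, 0, 0, -1], 0), ([1, 0, -1, 1], 0)] [1, 0, 2] 7)) (.clear 46 24 (.leaf [([1, 1, 2, 2], 0), ([-2, -1, -2, -2], 1), ([1, 1, 1, 1], 0), ([0, 1, 2, 0], 1)] [1, 0] 10))))) (.clear 43 27 (.branch (.clear 43 30 (.clear 43 31 (.dead 31 43 47))) (.clear 43 30 (.clear 45 26 (.dead 31 43 47)))))) (.branch (.clear 42 28 (.clear 42 30 (.branch (.clear 42 32 (.leaf [([0, 0, 1, 1], 0), ([0, 1, 0, 0], 1), ([0, -1, -2, 0], 1)] [1, 2, 1, 0, 2, 1, 2] 6)) (.clear 46 24 (.leaf [([0, 0, 1, 1], 0),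 ([0, 1, 0, 0], 1), ([1, 1, 1, 1], 1), ([1, 2, 3, 1], 1)] [1, 0, 2] 11))))) (.clear 43 27 (.clear 42 30 (.branch (.clear 43 31 (.dead 31 43 47)) (.clear 46 24 (.dead 31 43 47))))))) (.clear 41 24 (.clear 41 26 (.clear 41 29 (.dead 29 41 44)))))))) (.clear 37 24 (.clear 37 26 (.clear 37 29 (.dead 29 37 40)))))) (.clear 35 24 (.clear 35 27 (.clear 29 34 (.clear 35 29 (.dead 29 35 39)))))) (.branch (.clear 34 26 (.clear 34 28 (.clear 34 29 (.dead 29 34 38)))) (.clear 35 24 (.clear 35 27 (.clear 34 29 (.dead 29 34 38)))))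

/-- part of the tree -/
def treeF4_23 : Node :=
  .branch (.branch (treeF4_21) (.clear 31 25 (.branch (treeF4_22) (.clear 33 27 (.clear 33 28 (.clear 33 29 (.dead 29 33 36))))))) (.clear 30 24 (.clear 30 26 (.branch (.branch (.branch (.clear 29 33 (.branch (.clear 29 34 (.clear 29 35 (.clear 30 36 (.branch (.branch (.branch (.clear 29 41 (.clear 30 42 (.clear 30 43 (.branch (.leaf [([-1, -1, 0, 0], 0), ([-1, -1, 0, -1], 0)] [1, 2, 1, 3, 2, 1, 0] 4) (.leaf [([-1, -1, 0, 0], 0), ([0, 1, 0, 0], 1), ([2, 3, 0, 2], 1)] [2, 1, 3, 2, 1, 0] 6))))) (.clear 43 27 (.clear 30 42 (.clear 43 30 (.dead 30 43 46))))) (.clear 42 25 (.clear 42 28 (.clear 42 30 (.dead 30 42 45))))) (.branch (.branch (.clear 41 29 (.dead 29 41 44)) (.clear 43 27 (.dead 29 41 44))) (.clear 42 25 (.clear 42 28 (.dead 29 41 44)))))))) (.clear 29 34 (.clear 29 35 (.clear 37 29 (.dead 29 37 40))))))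 (.clear 29 33 (.clear 35 27 (.clear 29 34 (.clear 35 29 (.dead 29 35 39)))))) (.clear 34 25 (.clear 29 33 (.clear 34 28 (.clear 34 29 (.dead 29 34 38)))))) (.clear 33 27 (.clear 33 28 (.clear 33 29 (.dead 29 33 36)))))))

/-- part of the tree -/
def treeF4_24 : Node :=
  .branch (.branch (.branch (.clear 28 33 (.branch (.clear 28 34 (.branch (.clear 28 36 (.clear 28 38 (.branch (.branch (.branch (.clear 28 42 (.branch (.branch (.branch (.leaf [([-1, 0, 0, 0], 0)] [0, 1, 2, 1, 0, 3] 2) (.leaf [([-1, 0, 0, 0], 0), ([-1, 0, 0, 1], 0)] [2, 1, 0, 3] 4)) (.branch (.leaf [([-1, 0, 0, 0], 0), ([1, 0, 0, -1], 0)] [0, 1, 2, 1, 0, 3] 3) (.leaf [([-1, 0, 0, 0], 0), ([1, 0, 1, 0], 0), ([0, 0, 1, 1], 0)] [3, 2, 1, 0] 7))) (.clear 45 25 (.clear 45 26 (.leaf [([-1, 0, 0, 0], 0), ([-1, 0, -1, 0], 0)] [2, 1, 0, 2, 3] 4))))) (.clear 43 27 (.branch (.clear 43 30 (.clear 43 31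 (.leaf [([0, 0, 0, -1], 0), ([0, 0, 1, 1], 0)] [2, 1, 0, 2, 1, 3] 4))) (.clear 45 25 (.clear 45 26 (.leaf [([0, 0, 0, -1], 0), ([1, 0, 0, -1], 1), ([1, 1, 0, -1], 1)] [1, 0, 3] 9)))))) (.clear 42 25 (.clear 42 28 (.dead 28 42 44)))) (.branch (.clear 41 26 (.clear 41 29 (.clear 41 31 (.clear 41 32 (.branch (.leaf [([0, 0, 1, 0], 0), ([0, 0, -1, -1], 0)] [2, 1, 0, 2, 1, 2, 3] 4) (.leaf [([0, 0, 1, 0], 0), ([1, 0, 1, 0], 1), ([1, 0, 3, 2], 1)] [1, 0, 2, 3] 9)))))) (.clear 42 25 (.clear 42 28 (.dead 28 42 44))))))) (.clear 38 25 (.clear 38 28 (.dead 28 38 40))))) (.clear 28 34 (.clear 36 27 (.clear 36 28 (.dead 28 36 39)))))) (.clear 34 25 (.clear 34 26 (.clear 34 28 (.dead 28 34 37))))) (.clear 33 27 (.clear 33 28 (.dead 28 33 35)))) (.branch (.branch (.clear 28 33 (.branch (.clear 28 34 (.branch (.clear 28 36 (.clear 28 38 (.branch (.branch (.branch (.clear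 28 42 (.branch (.clear 32 41 (.branch (.leaf [([0, 0, 0, -1], 0), ([-1, 0, -1, 0], 0)] [0, 1, 2, 3, 2, 1, 0] 3) (.leaf [([1, 0, 2, 0], 0), ([-1, 0, -1, 0], 0), ([1, 0, 2, 1], 0)] [1, 0, 3] 7))) (.clear 45 25 (.clear 45 26 (.leaf [([0, 0, 0, -1], 0), ([-1, 0, 0, 1], 1), ([0, 1, 0, 0], 1)] [1, 2, 1, 0, 2, 3] 6))))) (.clear 43 27 (.branch (.clear 43 30 (.clear 43 31 (.leaf [([0, 0, 0, -1], 0), ([-1, -1, 0, 1], 1), ([0, -1, 0, 0], 1)] [1, 2, 1, 0, 2, 1, 3] 6))) (.clear 45 25 (.clear 45 26 (.leaf [([0, 0, 0, -1], 0), ([0, 1, 2, 2], 1), ([1, 1, 2, 1], 1), ([1, 2, 2, 1], 1)] [1, 0, 3] 11)))))) (.clear 42 25 (.clear 42 28 (.dead 28 42 44)))) (.branch (.clear 41 26 (.clear 41 29 (.clear 41 31 (.clear 41 32 (.dead 32 41 46))))) (.clear 42 25 (.clear 42 28 (.dead 28 42 44))))))) (.clear 38 25 (.clear 38 28 (.dead 28 38 40))))) (.clear 28 34 (.clear 36 27 (.clear 36 28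 (.dead 28 36 39)))))) (.clear 34 25 (.clear 34 26 (.clear 34 28 (.dead 28 34 37))))) (.clear 33 27 (.clear 33 28 (.dead 28 33 35))))

/-- part of the tree -/
def treeF4_25 : Node :=
  .branch (.branch (.clear 28 33 (.branch (.clear 28 34 (.branch (.clear 28 36 (.clear 28 38 (.branch (.branch (.branch (.clear 28 42 (.branch (.clear 30 43 (.branch (.leaf [([0, 0, 1, 0], 0), ([-1, 0, 0, 1], 0)] [0, 1, 3, 2, 1, 0, 2, 3] 3) (.leaf [([0, 0, 1, 0], 0), ([0, 1, 0, 0], 1), ([-1, 0, 1, 2], 1)] [1, 2, 1, 0, 3] 6))) (.clear 45 25 (.branch (.leaf [([1, 0, 0, -2], 0), ([-1, 0, 0, 1], 0), ([1, 1, 1, 0], 0)] [1, 0, 2, 3] 7) (.leaf [([1, 1, 2, 0], 0), ([-2, -1, -2, 0], 1), ([1, 1, 1, 0], 0), ([0, 1, 2, 2], 1)] [1, 0, 3] 10))))) (.clear 43 27 (.branch (.clear 43 30 (.dead 30 43 46)) (.clear 45 25 (.dead 30 43 46))))) (.clear 42 25 (.clear 42 28 (.dead 28 42 44)))) (.branch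 (.branch (.clear 41 29 (.clear 41 31 (.clear 41 32 (.branch (.leaf [([0, 0, 1, 0], 0), ([0, 1, 0, 0], 1), ([1, 1, 1, 0], 1)] [1, 2, 1, 0, 2, 1, 2, 3] 6) (.leaf [([0, 0, 1, 0], 0), ([0, 1, 0, 0], 1), ([1, 1, 1, 0], 1), ([1, 2, 3, 2], 1)] [1, 0, 2, 3] 11))))) (.clear 43 27 (.clear 41 31 (.clear 43 30 (.dead 30 43 46))))) (.clear 42 25 (.clear 42 28 (.dead 28 42 44))))))) (.clear 38 25 (.clear 38 28 (.dead 28 38 40))))) (.clear 28 34 (.clear 36 27 (.clear 36 28 (.dead 28 36 39)))))) (.clear 34 25 (.branch (.clear 34 28 (.dead 28 34 37)) (.clear 34 28 (.dead 28 34 37))))) (.clear 33 27 (.clear 33 28 (.dead 28 33 35)))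

/-- part of the tree -/
def treeF4_26 : Node :=
  .branch (.branch (treeF4_24) (.clear 31 25 (.branch (.branch (.clear 28 33 (.branch (.clear 28 34 (.branch (.clear 28 36 (.clear 31 35 (.branch (.branch (.branch (.clear 28 42 (.clear 31 41 (.branch (.clear 31 43 (.leaf [([-1, -1, 0, 0], 0), ([-1, -1, -1, 0], 0)] [1, 2, 1, 2, 3, 2, 1, 0] 4)) (.clear 31 43 (.leaf [([-1, -1, 0, 0], 0), ([0, 1, 0, 0], 1), ([2, 3, 0, -2], 1)] [2, 1, 2, 3, 2, 1, 0] 6))))) (.clear 43 27 (.clear 31 41 (.clear 43 30 (.clear 43 31 (.dead 31 43 47)))))) (.branch (.clear 42 28 (.dead 28 42 44)) (.clear 43 27 (.dead 28 42 44)))) (.branch (.clear 41 26 (.clear 41 29 (.clear 41 31 (.dead 31 41 45)))) (.clear 41 26 (.clear 42 28 (.dead 28 42 44))))))) (.clear 28 36 (.clear 38 28 (.dead 28 38 40))))) (.clear 28 34 (.clear 36 27 (.clear 36 28 (.dead 28 36 39)))))) (.clear 28 33 (.clear 34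 26 (.clear 34 28 (.dead 28 34 37))))) (.clear 33 27 (.clear 33 28 (.dead 28 33 35)))))) (.branch (.clear 30 26 (treeF4_25)) (.clear 31 25 (.branch (.branch (.clear 28 33 (.branch (.clear 28 34 (.branch (.clear 28 36 (.clear 31 35 (.branch (.branch (.branch (.clear 28 42 (.clear 31 41 (.clear 30 43 (.branch (.leaf [([-1, -1, 0, 0], 0), ([0, 0, -1, -1], 0), ([-1, -1, -1, 0], 0)] [1, 2, 1, 3, 2, 1, 0] 7) (.leaf [([-1, -1, 0, 0], 0), ([2, 3, 2, 0], 1), ([-1, -1, -1, 0], 0), ([2, 3, 4, 2], 1)] [3, 2, 1, 0] 10))))) (.clear 43 27 (.clear 31 41 (.clear 43 30 (.dead 30 43 46))))) (.branch (.clear 42 28 (.dead 28 42 44)) (.clear 43 27 (.dead 28 42 44)))) (.branch (.branch (.clear 41 29 (.clear 41 31 (.dead 31 41 45))) (.clear 43 27 (.clear 41 31 (.dead 31 41 45)))) (.branch (.clear 42 28 (.dead 28 42 44)) (.clear 43 27 (.dead 28 42 44))))))) (.clear 28 36 (.clear 38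 28 (.dead 28 38 40))))) (.clear 28 34 (.clear 36 27 (.clear 36 28 (.dead 28 36 39)))))) (.clear 28 33 (.branch (.clear 34 28 (.dead 28 34 37)) (.clear 34 28 (.dead 28 34 37))))) (.clear 33 27 (.clear 33 28 (.dead 28 33 35))))))

/-- part of the tree -/
def treeF4_27 : Node :=
  .branch (.branch (.clear 27 33 (.branch (.branch (.clear 27 35 (.clear 27 36 (.branch (.clear 27 39 (.branch (.branch (.branch (.clear 27 43 (.branch (.branch (.branch (.leaf [([-1, 0, 0, 0], 0)] [0, 1, 2, 1, 0, 3, 2] 2) (.leaf [([-1, 0, 0, 0], 0), ([0, 0, 0, 1], 0)] [2, 1, 0, 3, 2] 4)) (.clear 46 24 (.leaf [([-1, 0, 0, 0], 0), ([0, 0, 0, -1], 0)] [2, 1, 0, 2, 3, 2] 4))) (.branch (.branch (.leaf [([-1, 0, 0, 0], 0), ([1, 0, -1, 0], 0)] [0, 1, 2, 1, 0, 3, 2] 3) (.leaf [([-1, 0, 0, 0], 0), ([1, 0, -1, 0], 0), ([0, 0, 0, 1], 0)] [3, 2, 1, 0, 2] 7)) (.clear 46 24 (.leaf [([-1, 0, 0, 0],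 0), ([1, 0, -1, -1], 0), ([0, 0, 0, -1], 0)] [3, 2, 1, 0, 2, 3] 7))))) (.clear 43 27 (.dead 27 43 44))) (.branch (.clear 42 28 (.clear 42 30 (.branch (.clear 42 32 (.leaf [([0, 0, -1, -1], 0), ([0, 0, 0, 1], 0)] [2, 1, 0, 2, 1, 3, 2] 4)) (.clear 46 24 (.leaf [([0, 0, -1, -1], 0), ([1, 0, -1, -1], 1), ([1, 1, 1, -1], 1)] [1, 0, 3, 2] 9))))) (.clear 43 27 (.dead 27 43 44)))) (.clear 41 24 (.branch (.clear 41 29 (.clear 41 31 (.clear 41 32 (.branch (.leaf [([0, 0, -1, 0], 0), ([0, 0, 0, -1], 0)] [2, 1, 0, 2, 1, 2, 3, 2] 4) (.leaf [([0, 0, -1, 0], 0), ([1, 0, -1, 0], 1), ([1, 0, -1, 2], 1)] [1, 0, 2, 3, 2] 9))))) (.clear 43 27 (.dead 27 43 44)))))) (.clear 39 27 (.dead 27 39 40))))) (.clear 27 35 (.clear 36 27 (.dead 27 36 38)))) (.clear 35 24 (.clear 35 27 (.dead 27 35 37))))) (.clear 33 27 (.dead 27 33 34))) (.branch (.clear 27 33 (.branch (.branch (.clear 27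 35 (.clear 27 36 (.branch (.clear 32 34 (.branch (.branch (.branch (.clear 27 43 (.branch (.clear 32 41 (.clear 32 42 (.leaf [([-1, -1, -2, 0], 0), ([-1, -1, -1, 0], 0)] [1, 2, 1, 2, 3, 2, 1, 0, 2] 4))) (.clear 32 41 (.clear 32 42 (.leaf [([-1, -1, -2, 0], 0), ([0, 1, 2, 0], 1), ([2, 3, 4, 0], 1)] [2, 1, 2, 3, 2, 1, 0, 2] 6))))) (.clear 43 27 (.dead 27 43 44))) (.branch (.clear 42 28 (.clear 42 30 (.clear 32 41 (.clear 42 32 (.dead 32 42 47))))) (.clear 43 27 (.dead 27 43 44)))) (.clear 41 24 (.branch (.clear 41 29 (.clear 41 31 (.clear 41 32 (.dead 32 41 46)))) (.clear 43 27 (.dead 27 43 44)))))) (.clear 39 27 (.dead 27 39 40))))) (.clear 27 35 (.clear 36 27 (.dead 27 36 38)))) (.clear 35 24 (.clear 35 27 (.dead 27 35 37))))) (.clear 33 27 (.dead 27 33 34)))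

/-- part of the tree -/
def treeF4_28 : Node :=
  .branch (.branch (.clear 27 33 (.branch (.branch (.clear 27 35 (.clear 27 36 (.branch (.clear 27 39 (.branch (.branch (.branch (.clear 27 43 (.clear 31 41 (.branch (.branch (.leaf [([0, 0, -1, -1], 0), ([0, 0, 0, 1], 0)] [0, 1, 2, 3, 2, 1, 0, 2] 3) (.leaf [([1, 1, 0, 0], 0), ([-1, 0, 1, 0], 0), ([1, 0, -1, 1], 0)] [1, 0, 3, 2] 7)) (.clear 46 24 (.leaf [([0, 0, -1, -1], 0), ([-2, -1, 0, 0], 1), ([-1, 0, 1, -1], 1)] [1, 2, 1, 0, 2, 3, 2] 6))))) (.clear 43 27 (.dead 27 43 44))) (.branch (.clear 42 28 (.clear 42 30 (.branch (.clear 42 32 (.leaf [([0, 0, -1, -1], 0), ([-1, -1, -1, 1], 1), ([0, -1, -2, 0], 1)] [1, 2, 1, 0, 2, 1, 3, 2] 6)) (.clear 46 24 (.leaf [([0, 0, -1, -1], 0), ([0, 1, 2, 2], 1), ([1, 1, 1, 1], 1), ([1, 2, 3, 1], 1)] [1, 0, 3, 2] 11))))) (.clear 43 27 (.dead 27 43 44)))) (.clear 41 24 (.branch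 (.clear 41 29 (.clear 41 31 (.dead 31 41 45))) (.clear 43 27 (.dead 27 43 44)))))) (.clear 39 27 (.dead 27 39 40))))) (.clear 27 35 (.clear 36 27 (.dead 27 36 38)))) (.clear 35 24 (.clear 35 27 (.dead 27 35 37))))) (.clear 33 27 (.dead 27 33 34))) (.branch (.clear 27 33 (.branch (.branch (.clear 27 35 (.clear 27 36 (.branch (.clear 32 34 (.branch (.branch (.branch (.clear 27 43 (.clear 31 41 (.branch (.clear 32 42 (.leaf [([1, 2, 2, 0], 0), ([0, 0, 0, 1], 0), ([-1, -1, -1, -1], 0)] [1, 2, 1, 3, 2, 1, 0, 2, 3] 7)) (.clear 46 24 (.leaf [([-1, -1, -2, -2], 0), ([2, 3, 4, 4], 1), ([-1, -1, -1, -1], 0), ([2, 3, 4, 2], 1)] [3, 2, 1, 0, 2, 3] 10))))) (.clear 43 27 (.dead 27 43 44))) (.branch (.clear 42 28 (.clear 42 30 (.branch (.clear 42 32 (.dead 32 42 47)) (.clear 46 24 (.dead 32 42 47))))) (.clear 43 27 (.dead 27 43 44)))) (.clear 41 24 (.branch (.clear 41 29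 (.clear 41 31 (.dead 31 41 45))) (.clear 43 27 (.dead 27 43 44)))))) (.clear 39 27 (.dead 27 39 40))))) (.clear 27 35 (.clear 36 27 (.dead 27 36 38)))) (.clear 35 24 (.clear 35 27 (.dead 27 35 37))))) (.clear 33 27 (.dead 27 33 34)))

/-- part of the tree -/
def treeF4_29 : Node :=
  .branch (.branch (.clear 27 33 (.branch (.branch (.clear 27 35 (.clear 27 36 (.branch (.clear 27 39 (.branch (.branch (.branch (.clear 27 43 (.clear 30 42 (.branch (.branch (.leaf [([0, 0, -1, 0], 0), ([0, 0, 0, -1], 0)] [0, 1, 2, 3, 2, 1, 0, 2, 3] 3) (.leaf [([0, 0, -1, 0], 0), ([-1, 0, 1, 0], 1), ([-1, 0, 1, 2], 1)] [1, 2, 1, 0, 3, 2] 6)) (.branch (.leaf [([1, 1, 0, 0], 0), ([-1, 0, 1, 1], 0), ([1, 1, 1, 0], 0)] [1, 0, 2, 3, 2] 7) (.leaf [([1, 1, 0, 0], 0), ([-2, -1, 0, 0], 1), ([1, 1, 1, 0], 0), ([0, 1, 2, 2], 1)] [1, 0, 3, 2] 10))))) (.clear 43 27 (.dead 27 43 44))) (.branch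 (.clear 42 28 (.clear 42 30 (.dead 30 42 45))) (.clear 43 27 (.dead 27 43 44)))) (.branch (.branch (.clear 41 29 (.clear 41 31 (.clear 41 32 (.branch (.leaf [([0, 0, -1, 0], 0), ([0, 1, 2, 0], 1), ([1, 1, 1, 0], 1)] [1, 2, 1, 0, 2, 1, 2, 3, 2] 6) (.leaf [([0, 0, -1, 0], 0), ([0, 1, 2, 0], 1), ([1, 1, 1, 0], 1), ([1, 2, 3, 2], 1)] [1, 0, 2, 3, 2] 11))))) (.clear 43 27 (.dead 27 43 44))) (.branch (.clear 42 28 (.clear 42 30 (.dead 30 42 45))) (.clear 43 27 (.dead 27 43 44)))))) (.clear 39 27 (.dead 27 39 40))))) (.clear 27 35 (.clear 36 27 (.dead 27 36 38)))) (.branch (.clear 35 27 (.dead 27 35 37)) (.clear 35 27 (.dead 27 35 37))))) (.clear 33 27 (.dead 27 33 34))) (.branch (.clear 27 33 (.branch (.branch (.clear 27 35 (.clear 27 36 (.branch (.clear 32 34 (.branch (.branch (.branch (.clear 27 43 (.clear 30 42 (.clear 32 41 (.branch (.leaf [([-1, -1, -2, 0],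 0), ([0, 0, 0, -1], 0), ([-1, -1, -1, 0], 0)] [1, 2, 1, 3, 2, 1, 0, 2] 7) (.leaf [([-1, -1, -2, 0], 0), ([2, 3, 4, 0], 1), ([-1, -1, -1, 0], 0), ([2, 3, 4, 2], 1)] [3, 2, 1, 0, 2] 10))))) (.clear 43 27 (.dead 27 43 44))) (.branch (.clear 42 28 (.clear 42 30 (.dead 30 42 45))) (.clear 43 27 (.dead 27 43 44)))) (.branch (.branch (.clear 41 29 (.clear 41 31 (.clear 41 32 (.dead 32 41 46)))) (.clear 43 27 (.dead 27 43 44))) (.branch (.clear 42 28 (.clear 42 30 (.dead 30 42 45))) (.clear 43 27 (.dead 27 43 44)))))) (.clear 39 27 (.dead 27 39 40))))) (.clear 27 35 (.clear 36 27 (.dead 27 36 38)))) (.branch (.clear 35 27 (.dead 27 35 37)) (.clear 35 27 (.dead 27 35 37))))) (.clear 33 27 (.dead 27 33 34)))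

/-- part of the tree -/
def treeF4_30 : Node :=
  .branch (.branch (.branch (.clear 26 41 (.branch (.branch (.branch (.clear 26 45 (.leaf [([0, 0, 0, 1], 0)] [3, 2, 1, 0, 2, 1] 1)) (.clear 46 24 (.leaf [([0, -1, 0, 0], 1), ([0, 0, 1, -1], 1)] [0, 2, 1] 5))) (.clear 45 25 (.clear 45 26 (.dead 26 45 47)))) (.branch (.branch (.clear 26 45 (.leaf [([0, 0, 0, 1], 0), ([1, 0, 0, 0], 0)] [1, 0, 2, 1] 4)) (.clear 46 24 (.leaf [([0, -1, 0, 0], 1), ([1, 0, 0, 0], 0), ([0, 0, 1, -1], 1)] [0, 2, 1] 6))) (.clear 45 25 (.clear 45 26 (.dead 26 45 47)))))) (.clear 42 25 (.clear 42 28 (.branch (.branch (.clear 42 32 (.leaf [([0, -1, 0, 0], 1), ([1, 0, 0, 0], 1)] [0, 1, 2, 1] 5)) (.clear 46 24 (.leaf [([0, -1, 0, 0], 1), ([1, 0, 0, 0], 1), ([1, 0, 1, -1], 1)] [2, 1] 8))) (.branch (.clear 45 26 (.dead 26 45 47)) (.clear 46 24 (.dead 26 45 47))))))) (.clear 41 24 (.clear 41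 26 (.dead 26 41 43)))) (.branch (.branch (.clear 26 41 (.clear 40 33 (.branch (.branch (.clear 26 45 (.leaf [([0, 0, 0, 1], 0), ([-1, 0, 0, 0], 0)] [1, 0, 2, 1, 0] 4)) (.clear 46 24 (.leaf [([-1, -1, 0, 0], 1), ([-1, 0, 0, 0], 0), ([0, 0, 1, -1], 1)] [0, 2, 1, 0] 6))) (.clear 45 25 (.clear 45 26 (.dead 26 45 47)))))) (.clear 42 25 (.clear 42 28 (.branch (.branch (.clear 42 32 (.leaf [([0, 0, 1, 1], 1), ([-1, 0, -1, 1], 0), ([0, 0, -1, 1], 1)] [2, 1] 9)) (.clear 46 24 (.leaf [([0, 0, 1, 1], 1), ([0, 1, 1, 1], 0), ([1, 1, 1, 1], 1), ([1, 1, 2, 0], 1)] [2, 1] 11))) (.branch (.clear 45 26 (.dead 26 45 47)) (.clear 46 24 (.dead 26 45 47))))))) (.clear 41 24 (.clear 41 26 (.dead 26 41 43))))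

/-- part of the tree -/
def treeF4_31 : Node :=
  .branch (.clear 26 34 (.branch (.branch (.clear 26 37 (treeF4_30)) (.clear 38 25 (.clear 38 28 (.branch (.branch (.clear 26 41 (.clear 38 35 (.branch (.branch (.clear 26 45 (.leaf [([0, -1, -1, 0], 0), ([0, -1, -2, 0], 0)] [1, 0, 2, 1, 0, 2, 1, 2] 4)) (.clear 46 24 (.leaf [([0, 0, 1, 1], 1), ([0, 1, 1, 1], 0), ([0, 2, 3, 1], 1)] [1, 2, 1] 9))) (.branch (.clear 45 26 (.dead 26 45 47)) (.clear 46 24 (.dead 26 45 47)))))) (.clear 26 41 (.clear 38 35 (.branch (.branch (.clear 42 32 (.leaf [([0, 0, 1, 1], 1), ([0, 1, 1, 1], 0), ([1, 0, 0, 0], 1)] [0, 2, 1, 0, 2, 1, 2] 6)) (.clear 46 24 (.leaf [([0, 0, 1, 1], 1), ([0, 1, 1, 1], 0), ([1, 0, 0, 0], 1), ([1, 2, 3, 1], 1)] [1, 2, 1] 11))) (.branch (.clear 45 26 (.dead 26 45 47)) (.clear 46 24 (.dead 26 45 47))))))) (.clear 41 24 (.clear 41 26 (.dead 26 41 43)))))))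 (.clear 37 24 (.clear 37 26 (.dead 26 37 39))))) (.clear 35 24 (.branch (.branch (.clear 35 29 (.clear 35 31 (.branch (.branch (.clear 26 41 (.clear 35 38 (.branch (.branch (.clear 26 45 (.leaf [([-1, 0, 1, 0], 0), ([1, 0, 0, 0], 0)] [1, 2, 1, 0, 2, 3, 2, 1] 4)) (.clear 26 45 (.leaf [([-1, -1, 0, 0], 1), ([1, 0, 0, 0], 0), ([-2, 0, 1, -1], 1)] [2, 1, 0, 2, 3, 2, 1] 6))) (.clear 45 25 (.clear 45 26 (.dead 26 45 47)))))) (.clear 42 25 (.clear 42 28 (.branch (.branch (.clear 42 32 (.leaf [([0, 0, 1, 1], 1), ([0, -1, -1, -1], 0), ([1, 1, 1, 1], 1)] [3, 2, 1] 9)) (.clear 42 32 (.leaf [([0, 0, 1, 1], 1), ([0, -1, -1, -1], 0), ([1, 1, 1, 1], 1), ([1, 3, 4, 2], 1)] [3, 2, 1] 11))) (.branch (.clear 45 26 (.dead 26 45 47)) (.clear 45 26 (.dead 26 45 47))))))) (.branch (.clear 41 26 (.dead 26 41 43)) (.clear 42 25 (.dead 26 41 43)))))) (.clear 38 25 (.clear 38 28 (.branch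 (.branch (.clear 26 41 (.clear 38 35 (.dead 35 38 44))) (.clear 26 41 (.clear 38 35 (.dead 35 38 44)))) (.branch (.clear 41 26 (.dead 26 41 43)) (.clear 41 26 (.dead 26 41 43))))))) (.branch (.clear 37 26 (.dead 26 37 39)) (.clear 38 25 (.dead 26 37 39)))))

/-- part of the tree -/
def treeF4_32 : Node :=
  .clear 26 30 (.branch (.branch (treeF4_31) (.clear 34 25 (.clear 34 26 (.dead 26 34 36)))) (.branch (.clear 33 28 (.clear 33 29 (.branch (.clear 33 31 (.clear 33 32 (.branch (.branch (.branch (.clear 26 41 (.clear 33 40 (.branch (.branch (.clear 26 45 (.leaf [([0, 0, 0, 1], 0), ([0, -1, -2, 0], 0)] [1, 2, 1, 0, 2, 1, 3, 2, 1] 4)) (.clear 46 24 (.leaf [([0, 0, 1, 1], 1), ([0, -1, -1, -1], 0), ([0, 0, 1, -1], 1)] [1, 3, 2, 1] 9))) (.clear 45 25 (.clear 45 26 (.dead 26 45 47)))))) (.clear 42 25 (.clear 33 40 (.branch (.branch (.clear 26 45 (.leaf [([0, 0,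 1, 1], 1), ([0, -1, -1, -1], 0), ([0, 0, -1, 1], 1)] [2, 1, 0, 2, 1, 3, 2, 1] 6)) (.clear 46 24 (.leaf [([0, 0, 1, 1], 1), ([0, -1, -1, -1], 0), ([1, 2, 2, 2], 1), ([1, 2, 3, 1], 1)] [1, 3, 2, 1] 11))) (.branch (.clear 45 26 (.dead 26 45 47)) (.clear 46 24 (.dead 26 45 47))))))) (.clear 41 24 (.clear 41 26 (.dead 26 41 43)))) (.branch (.branch (.clear 26 41 (.clear 40 33 (.dead 33 40 44))) (.clear 42 25 (.clear 40 33 (.dead 33 40 44)))) (.clear 41 24 (.clear 41 26 (.dead 26 41 43))))))) (.clear 37 24 (.clear 37 26 (.dead 26 37 39)))))) (.clear 34 25 (.clear 34 26 (.dead 26 34 36)))))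

/-- part of the tree -/
def treeF4_33 : Node :=
  .branch (.clear 26 34 (.branch (.clear 31 33 (.clear 26 37 (.clear 31 35 (.branch (.branch (.clear 26 41 (.branch (.branch (.branch (.clear 31 43 (.leaf [([-1, -1, 0, 0], 1), ([-1, 0, 0, 0], 1)] [0, 1, 2, 1, 0] 5)) (.clear 46 24 (.leaf [([-1, -1, 0, 0], 1), ([-1, 0, 0, 0], 1), ([-1, 0, 1, -1], 1)] [2, 1, 0] 8))) (.branch (.clear 45 26 (.dead 26 45 47)) (.clear 46 24 (.dead 26 45 47)))) (.branch (.branch (.clear 31 43 (.leaf [([0, 0, 1, 1], 1), ([0, 0, -1, 1], 1), ([1, 0, -1, 1], 0)] [2, 1, 0] 9)) (.clear 46 24 (.leaf [([0, 0, 1, 1], 1), ([0, 1, 1, 1], 1), ([1, 1, 1, 1], 0), ([0, 1, 2, 0], 1)] [2, 1, 0] 11))) (.branch (.clear 45 26 (.dead 26 45 47)) (.clear 46 24 (.dead 26 45 47)))))) (.clear 26 41 (.clear 42 28 (.branch (.branch (.clear 42 32 (.leaf [([0, 0, 1, 1], 1), ([0, 1, 1, 1], 1), ([0, -1, -2, 0], 1)]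 [2, 1, 0, 2, 1, 2] 8)) (.clear 46 24 (.leaf [([0, 0, 1, 1], 1), ([0, 1, 1, 1], 1), ([1, 1, 1, 1], 1), ([1, 2, 3, 1], 1)] [] 12))) (.branch (.clear 45 26 (.dead 26 45 47)) (.clear 46 24 (.dead 26 45 47))))))) (.clear 41 24 (.clear 41 26 (.dead 26 41 43))))))) (.clear 37 24 (.clear 37 26 (.dead 26 37 39))))) (.clear 35 24 (.branch (.clear 31 33 (.clear 35 29 (.clear 35 31 (.dead 31 35 40)))) (.clear 31 33 (.clear 37 26 (.dead 26 37 39)))))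

/-- part of the tree -/
def treeF4_34 : Node :=
  .branch (.clear 26 30 (.branch (.branch (.clear 28 33 (.clear 26 34 (.branch (.branch (.clear 28 36 (.clear 28 38 (.branch (.branch (.clear 26 41 (.clear 28 42 (.branch (.branch (.clear 26 45 (.leaf [([-1, 0, 0, 1], 0), ([-1, 0, 0, 0], 0)] [1, 2, 1, 0, 2, 3, 2, 1, 0] 4)) (.clear 26 45 (.leaf [([0, -1, 0, 0], 1), ([-1, 0, 0, 0], 0), ([2, 0, 1, -1], 1)] [2, 1, 0, 2, 3, 2, 1, 0] 6))) (.clear 45 25 (.clear 45 26 (.dead 26 45 47)))))) (.clear 42 25 (.clear 42 28 (.dead 28 42 44)))) (.branch (.clear 41 26 (.dead 26 41 43)) (.clear 42 25 (.dead 26 41 43)))))) (.clear 38 25 (.clear 38 28 (.dead 28 38 40)))) (.branch (.clear 37 26 (.dead 26 37 39)) (.clear 38 25 (.dead 26 37 39)))))) (.clear 34 25 (.clear 34 26 (.dead 26 34 36)))) (.branch (.clear 33 28 (.dead 28 33 35)) (.clear 34 25 (.dead 28 33 35))))) (.clear 31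 25 (.branch (.branch (.clear 28 33 (.clear 26 34 (.branch (.branch (.clear 28 36 (.clear 31 35 (.branch (.branch (.clear 26 41 (.clear 28 42 (.branch (.branch (.clear 31 43 (.leaf [([0, 0, 1, 1], 1), ([-1, -1, -1, -1], 0), ([0, 1, 1, 1], 1)] [3, 2, 1, 0] 9)) (.clear 31 43 (.leaf [([0, 0, 1, 1], 1), ([-1, -1, -1, -1], 0), ([0, 1, 1, 1], 1), ([2, 3, 4, 2], 1)] [3, 2, 1, 0] 11))) (.branch (.clear 45 26 (.dead 26 45 47)) (.clear 45 26 (.dead 26 45 47)))))) (.clear 26 41 (.clear 42 28 (.dead 28 42 44)))) (.branch (.clear 41 26 (.dead 26 41 43)) (.clear 41 26 (.dead 26 41 43)))))) (.clear 28 36 (.clear 38 28 (.dead 28 38 40)))) (.branch (.clear 37 26 (.dead 26 37 39)) (.clear 37 26 (.dead 26 37 39)))))) (.clear 28 33 (.clear 34 26 (.dead 26 34 36)))) (.branch (.clear 33 28 (.dead 28 33 35)) (.clear 33 28 (.dead 28 33 35)))))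

/-- part of the tree -/
def treeF4_35 : Node :=
  .branch (.clear 25 38 (.branch (.branch (.branch (.clear 25 42 (.branch (.branch (.clear 25 45 (.branch (.leaf [([0, 0, 0, -1], 0)] [3, 2, 1, 0, 2, 1, 3] 1) (.leaf [([0, -1, 0, 0], 1), ([0, -1, 0, 2], 1)] [0, 2, 1, 3] 5))) (.clear 45 25 (.dead 25 45 46))) (.branch (.clear 25 45 (.branch (.leaf [([0, 0, 0, -1], 0), ([1, 0, 0, 0], 0)] [1, 0, 2, 1, 3] 4) (.leaf [([0, -1, 0, 0], 1), ([1, 0, 0, 0], 0), ([0, -1, 0, 2], 1)] [0, 2, 1, 3] 6))) (.clear 45 25 (.dead 25 45 46))))) (.clear 42 25 (.dead 25 42 43))) (.branch (.clear 41 26 (.clear 41 29 (.branch (.clear 41 32 (.branch (.leaf [([0, -1, 0, 0], 1), ([1, 0, 0, 0], 1)] [0, 1, 2, 1, 3] 5) (.leaf [([0, -1, 0, 0], 1), ([1, 0, 0, 0], 1), ([1, -1, 0, 2], 1)] [2, 1, 3] 8))) (.clear 45 25 (.dead 25 45 46))))) (.clear 42 25 (.dead 25 42 43)))) (.branch (.branch (.clear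 25 42 (.clear 40 33 (.branch (.clear 25 45 (.branch (.leaf [([0, 0, 0, -1], 0), ([-1, 0, 0, 0], 0)] [1, 0, 2, 1, 0, 3] 4) (.leaf [([0, 0, 1, 0], 1), ([-1, 0, 0, 0], 0), ([0, 0, 1, 2], 1)] [0, 2, 1, 0, 3] 6))) (.clear 45 25 (.dead 25 45 46))))) (.clear 42 25 (.dead 25 42 43))) (.branch (.clear 41 26 (.clear 41 29 (.branch (.clear 41 32 (.branch (.leaf [([0, 0, 1, 0], 1), ([0, 1, 1, 0], 0), ([0, 0, -1, -2], 1)] [2, 1, 3] 9) (.leaf [([0, 0, 1, 0], 1), ([0, 1, 1, 0], 0), ([1, 1, 1, 0], 1), ([1, 1, 2, 2], 1)] [2, 1, 3] 11))) (.clear 45 25 (.dead 25 45 46))))) (.clear 42 25 (.dead 25 42 43)))))) (.clear 38 25 (.dead 25 38 39))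

/-- part of the tree -/
def treeF4_36 : Node :=
  .branch (.branch (treeF4_35) (.branch (.clear 37 26 (.clear 37 29 (.branch (.branch (.clear 25 42 (.clear 37 36 (.branch (.clear 25 45 (.branch (.leaf [([0, -1, -1, -1], 0), ([0, 1, 1, 0], 0)] [1, 0, 2, 1, 0, 2, 1, 2, 3] 4) (.leaf [([0, 0, 1, 0], 1), ([0, 1, 1, 0], 0), ([0, 2, 3, 2], 1)] [1, 2, 1, 3] 9))) (.clear 45 25 (.dead 25 45 46))))) (.clear 42 25 (.dead 25 42 43))) (.branch (.clear 25 42 (.clear 37 36 (.branch (.clear 41 32 (.branch (.leaf [([0, 0, 1, 0], 1), ([0, 1, 1, 0], 0), ([1, 0, 0, 0], 1)] [0, 2, 1, 0, 2, 1, 2, 3] 6) (.leaf [([0, 0, 1, 0], 1), ([0, 1, 1, 0], 0), ([1, 0, 0, 0], 1), ([1, 2, 3, 2], 1)] [1, 2, 1, 3] 11))) (.clear 45 25 (.dead 25 45 46))))) (.clear 42 25 (.dead 25 42 43)))))) (.clear 38 25 (.dead 25 38 39)))) (.branch (.branch (.clear 36 28 (.clear 36 30 (.branch (.branch (.clear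 25 42 (.clear 36 37 (.branch (.clear 25 45 (.branch (.leaf [([1, 0, 0, -1], 0), ([1, 0, 0, 0], 0)] [1, 2, 1, 0, 3, 2, 1] 4) (.leaf [([0, 0, 1, 0], 1), ([1, 0, 0, 0], 0), ([-2, 0, 1, 2], 1)] [2, 1, 0, 3, 2, 1] 6))) (.clear 45 25 (.dead 25 45 46))))) (.clear 42 25 (.dead 25 42 43))) (.branch (.clear 41 26 (.clear 41 29 (.branch (.clear 41 32 (.branch (.leaf [([0, 0, 1, 0], 1), ([0, -1, -1, 0], 0), ([1, 1, 1, 0], 1)] [2, 3, 2, 1] 9) (.leaf [([0, 0, 1, 0], 1), ([0, -1, -1, 0], 0), ([1, 1, 1, 0], 1), ([1, 3, 4, 2], 1)] [2, 3, 2, 1] 11))) (.clear 45 25 (.dead 25 45 46))))) (.clear 42 25 (.dead 25 42 43)))))) (.clear 38 25 (.dead 25 38 39))) (.branch (.clear 37 26 (.clear 37 29 (.branch (.branch (.clear 25 42 (.clear 37 36 (.dead 36 37 44))) (.clear 42 25 (.dead 25 42 43))) (.branch (.clear 25 42 (.clear 37 36 (.dead 36 37 44))) (.clear 42 25 (.dead 25 42 43))))))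 (.clear 38 25 (.dead 25 38 39))))

/-- part of the tree -/
def treeF4_37 : Node :=
  .branch (.clear 30 26 (.branch (.branch (.clear 25 34 (.branch (.clear 30 33 (.branch (.clear 25 38 (.clear 30 36 (.branch (.branch (.clear 25 42 (.branch (.branch (.clear 30 43 (.branch (.leaf [([0, 0, 1, 0], 1), ([-1, 0, 0, 0], 1)] [0, 1, 2, 1, 0, 3] 5) (.leaf [([0, 0, 1, 0], 1), ([-1, 0, 0, 0], 1), ([-1, 0, 1, 2], 1)] [2, 1, 0, 3] 8))) (.clear 45 25 (.dead 25 45 46))) (.branch (.clear 30 43 (.branch (.leaf [([0, 0, 1, 0], 1), ([0, 1, 1, 0], 1), ([1, 1, 1, 0], 0)] [2, 1, 0, 3] 9) (.leaf [([0, 0, 1, 0], 1), ([0, 1, 1, 0], 1), ([1, 1, 1, 0], 0), ([0, 1, 2, 2], 1)] [2, 1, 0, 3] 11))) (.clear 45 25 (.dead 25 45 46))))) (.clear 42 25 (.dead 25 42 43))) (.branch (.clear 25 42 (.clear 41 29 (.branch (.clear 41 32 (.branch (.leaf [([0, 0, 1, 0], 1), ([0, 1, 1, 0], 1), ([1, 1, 1,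 0], 1)] [2, 1, 0, 2, 1, 2, 3] 8) (.leaf [([0, 0, 1, 0], 1), ([0, 1, 1, 0], 1), ([1, 1, 1, 0], 1), ([1, 2, 3, 2], 1)] [3] 12))) (.clear 45 25 (.dead 25 45 46))))) (.clear 42 25 (.dead 25 42 43)))))) (.clear 38 25 (.dead 25 38 39)))) (.clear 30 33 (.branch (.clear 36 28 (.clear 36 30 (.dead 30 36 40))) (.clear 38 25 (.dead 25 38 39)))))) (.clear 34 25 (.dead 25 34 35))) (.branch (.clear 33 28 (.clear 33 29 (.clear 33 30 (.dead 30 33 37)))) (.clear 34 25 (.dead 25 34 35))))) (.clear 31 25 (.dead 25 31 32))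

/-- part of the tree -/
def treeF4_38 : Node :=
  .branch (.branch (.clear 25 31 (.branch (.branch (.clear 25 34 (treeF4_36)) (.clear 34 25 (.dead 25 34 35))) (.branch (.clear 33 28 (.clear 33 29 (.clear 33 30 (.branch (.clear 33 32 (.branch (.branch (.branch (.clear 25 42 (.clear 33 40 (.branch (.clear 25 45 (.branch (.leaf [([0, 0, 0, -1], 0), ([0, -1, -1, 0], 0)] [1, 2, 1, 0, 2, 1, 2, 3, 2, 1] 4) (.leaf [([0, 0, 1, 0], 1), ([0, -1, -1, 0], 0), ([0, 0, 1, 2], 1)] [1, 2, 3, 2, 1] 9))) (.clear 45 25 (.dead 25 45 46))))) (.clear 42 25 (.dead 25 42 43))) (.branch (.clear 41 26 (.clear 33 40 (.branch (.clear 25 45 (.branch (.leaf [([0, 0, 1, 0], 1), ([0, -1, -1, 0], 0), ([0, 0, -1, -2], 1)] [2, 1, 0, 2, 1, 2, 3, 2, 1] 6) (.leaf [([0, 0, 1, 0], 1), ([0, -1, -1, 0], 0), ([1, 2, 2, 0], 1), ([1, 2, 3, 2], 1)] [1, 2, 3, 2, 1] 11))) (.clear 45 25 (.dead 25 45 46)))))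 (.clear 42 25 (.dead 25 42 43)))) (.branch (.branch (.clear 25 42 (.clear 40 33 (.dead 33 40 44))) (.clear 42 25 (.dead 25 42 43))) (.branch (.clear 41 26 (.clear 40 33 (.dead 33 40 44))) (.clear 42 25 (.dead 25 42 43)))))) (.clear 38 25 (.dead 25 38 39)))))) (.clear 34 25 (.dead 25 34 35))))) (.clear 31 25 (.dead 25 31 32))) (treeF4_37)

/-- part of the tree -/
def treeF4_39 : Node :=
  .branch (.branch (.clear 25 31 (.branch (.branch (.clear 25 34 (.clear 29 33 (.branch (.branch (.clear 29 35 (.clear 29 37 (.branch (.branch (.clear 25 42 (.clear 29 41 (.branch (.clear 25 45 (.branch (.leaf [([-1, 0, 0, -1], 0), ([-1, 0, 0, 0], 0)] [1, 2, 1, 0, 3, 2, 1, 0] 4) (.leaf [([0, -1, 0, 0], 1), ([-1, 0, 0, 0], 0), ([2, -1, 0, 2], 1)] [2, 1, 0, 3, 2, 1, 0] 6))) (.clear 45 25 (.dead 25 45 46))))) (.clear 42 25 (.dead 25 42 43))) (.branch (.clear 41 26 (.clear 41 29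 (.dead 29 41 44))) (.clear 42 25 (.dead 25 42 43)))))) (.clear 38 25 (.dead 25 38 39))) (.branch (.clear 37 26 (.clear 37 29 (.dead 29 37 40))) (.clear 38 25 (.dead 25 38 39)))))) (.clear 34 25 (.dead 25 34 35))) (.branch (.clear 33 28 (.clear 33 29 (.dead 29 33 36))) (.clear 34 25 (.dead 25 34 35))))) (.clear 31 25 (.dead 25 31 32))) (.branch (.clear 30 26 (.branch (.branch (.clear 25 34 (.clear 29 33 (.branch (.branch (.clear 29 35 (.clear 30 36 (.branch (.branch (.clear 25 42 (.clear 29 41 (.branch (.clear 30 43 (.branch (.leaf [([0, 0, 1, 0], 1), ([-1, -1, -1, 0], 0), ([0, 1, 1, 0], 1)] [2, 3, 2, 1, 0] 9) (.leaf [([0, 0, 1, 0], 1), ([-1, -1, -1, 0], 0), ([0, 1, 1, 0], 1), ([2, 3, 4, 2], 1)] [2, 3, 2, 1, 0] 11))) (.clear 45 25 (.dead 25 45 46))))) (.clear 42 25 (.dead 25 42 43))) (.branch (.clear 25 42 (.clear 41 29 (.dead 29 41 44))) (.clear 42 25 (.dead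 25 42 43)))))) (.clear 38 25 (.dead 25 38 39))) (.branch (.clear 29 35 (.clear 37 29 (.dead 29 37 40))) (.clear 38 25 (.dead 25 38 39)))))) (.clear 34 25 (.dead 25 34 35))) (.branch (.clear 33 28 (.clear 33 29 (.dead 29 33 36))) (.clear 34 25 (.dead 25 34 35))))) (.clear 31 25 (.dead 25 31 32)))

/-- part of the tree -/
def treeF4_40 : Node :=
  .branch (.branch (.branch (.branch (.branch (treeF4_19) (treeF4_23)) (.clear 28 24 (treeF4_26))) (.clear 27 25 (.clear 27 26 (.branch (.branch (treeF4_27) (treeF4_28)) (.clear 30 24 (treeF4_29)))))) (.branch (.branch (.clear 26 27 (.branch (.branch (treeF4_32) (.clear 31 25 (.branch (.branch (treeF4_33) (.branch (.clear 34 26 (.dead 26 34 36)) (.clear 35 24 (.dead 26 34 36)))) (.branch (.clear 33 28 (.clear 33 29 (.branch (.clear 33 31 (.dead 31 33 38)) (.clear 37 24 (.dead 31 33 38))))) (.clear 33 28 (.clear 34 26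 (.dead 26 34 36))))))) (.clear 30 24 (.clear 30 26 (.dead 26 30 32))))) (.clear 28 24 (.branch (treeF4_34) (.branch (.clear 30 26 (.dead 26 30 32)) (.clear 31 25 (.dead 26 30 32)))))) (.clear 27 25 (.clear 27 26 (.dead 26 27 29))))) (.clear 25 24 (.branch (.clear 25 27 (.branch (treeF4_38) (treeF4_39))) (.clear 27 25 (.dead 25 27 28))))

/-- part of the tree -/
def treeF4_41 : Node :=
  .branch (.branch (.clear 24 41 (.branch (.branch (.branch (.branch (.clear 24 46 (.leaf [([0, 0, -1, 0], 0)] [3, 2, 1, 0, 2, 1, 2] 1)) (.clear 46 24 (.dead 24 46 47))) (.branch (.clear 45 26 (.leaf [([0, 0, 0, 1], 1), ([0, 1, 0, 0], 1)] [0, 2, 1, 2] 5)) (.clear 46 24 (.dead 24 46 47)))) (.branch (.branch (.clear 24 46 (.leaf [([0, 0, -1, 0], 0), ([1, 0, 0, 0], 0)] [1, 0, 2, 1, 2] 4)) (.clear 46 24 (.dead 24 46 47))) (.branch (.clear 45 26 (.leaf [([0, 0, 0, 1], 1), ([1, 0,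 0, 0], 0), ([0, 1, 0, 0], 1)] [0, 2, 1, 2] 6)) (.clear 46 24 (.dead 24 46 47))))) (.clear 43 27 (.branch (.branch (.clear 43 31 (.leaf [([0, 0, 0, 1], 1), ([0, -1, 0, 0], 1)] [0, 1, 2, 1, 2] 5)) (.clear 46 24 (.dead 24 46 47))) (.branch (.clear 45 26 (.leaf [([0, 0, 0, 1], 1), ([1, 0, 0, 0], 1), ([1, 1, 0, 0], 1)] [2, 1, 2] 8)) (.clear 46 24 (.dead 24 46 47))))))) (.clear 41 24 (.dead 24 41 42))) (.branch (.clear 24 41 (.branch (.clear 40 33 (.branch (.branch (.clear 24 46 (.leaf [([0, 0, -1, 0], 0), ([-1, 0, 0, 0], 0)] [1, 0, 2, 1, 0, 2] 4)) (.clear 46 24 (.dead 24 46 47))) (.branch (.clear 45 26 (.leaf [([0, 0, 0, 1], 1), ([-1, 0, 0, 0], 0), ([1, 1, 0, 0], 1)] [0, 2, 1, 0, 2] 6)) (.clear 46 24 (.dead 24 46 47))))) (.clear 43 27 (.branch (.branch (.clear 43 31 (.leaf [([0, 0, 0, 1], 1), ([-1, 0, 2, 1], 0), ([0, 0, 2, 1], 1)] [2, 1, 2] 9)) (.clear 46 24 (.dead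 24 46 47))) (.branch (.clear 45 26 (.leaf [([0, 0, 0, 1], 1), ([0, 1, 2, 1], 0), ([1, 1, 2, 1], 1), ([1, 1, 0, 0], 1)] [2, 1, 2] 11)) (.clear 46 24 (.dead 24 46 47))))))) (.clear 41 24 (.dead 24 41 42)))

/-- part of the tree -/
def treeF4_42 : Node :=
  .branch (.branch (.clear 24 35 (.branch (.clear 24 37 (.branch (treeF4_41) (.clear 39 27 (.branch (.clear 24 41 (.branch (.clear 39 34 (.branch (.branch (.clear 24 46 (.leaf [([0, -1, -1, 0], 0), ([0, -1, 0, 0], 0)] [1, 0, 2, 1, 0, 2, 1] 4)) (.clear 46 24 (.dead 24 46 47))) (.branch (.clear 45 26 (.leaf [([0, 0, 0, 1], 1), ([0, 1, 2, 1], 0), ([0, 2, 2, 1], 1)] [1, 2, 1, 2] 9)) (.clear 46 24 (.dead 24 46 47))))) (.clear 39 34 (.branch (.branch (.clear 43 31 (.leaf [([0, 0, 0, 1], 1), ([-1, -1, 0, 0], 0), ([1, 0, 0, 0], 1)] [0, 2, 1, 0, 2, 1] 6)) (.clear 46 24 (.dead 24 46 47))) (.branch (.clear 45 26 (.leaf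 [([0, 0, 0, 1], 1), ([0, 1, 2, 1], 0), ([1, 0, 0, 0], 1), ([1, 2, 2, 1], 1)] [1, 2, 1, 2] 11)) (.clear 46 24 (.dead 24 46 47))))))) (.clear 41 24 (.dead 24 41 42)))))) (.clear 37 24 (.dead 24 37 38)))) (.clear 35 24 (.dead 24 35 36))) (.branch (.clear 34 26 (.branch (.clear 34 29 (.branch (.clear 34 32 (.branch (.clear 24 41 (.branch (.clear 34 39 (.branch (.branch (.clear 24 46 (.leaf [([-1, 0, -1, 0], 0), ([0, 1, 0, 0], 0)] [1, 2, 1, 0, 2, 3, 2, 1, 2] 4)) (.clear 46 24 (.dead 24 46 47))) (.branch (.clear 24 46 (.leaf [([0, 0, 0, 1], 1), ([1, 0, 0, 0], 0), ([-1, 1, 0, 0], 1)] [2, 1, 0, 2, 3, 2, 1, 2] 6)) (.clear 46 24 (.dead 24 46 47))))) (.clear 43 27 (.branch (.branch (.clear 43 31 (.leaf [([0, 0, 0, 1], 1), ([0, -1, -2, -1], 0), ([0, -2, -2, -1], 1)] [3, 2, 1, 2] 9)) (.clear 46 24 (.dead 24 46 47))) (.branch (.clear 43 31 (.leaf [([0, 0, 0, 1], 1), ([0,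 -1, -2, -1], 0), ([1, 1, 2, 1], 1), ([1, 3, 4, 2], 1)] [3, 2, 1, 2] 11)) (.clear 46 24 (.dead 24 46 47))))))) (.clear 41 24 (.dead 24 41 42)))) (.clear 39 27 (.branch (.clear 24 41 (.branch (.clear 39 34 (.dead 34 39 44)) (.clear 39 34 (.dead 34 39 44)))) (.clear 41 24 (.dead 24 41 42)))))) (.clear 37 24 (.dead 24 37 38)))) (.clear 35 24 (.dead 24 35 36)))

/-- part of the tree -/
def treeF4_43 : Node :=
  .branch (.branch (.clear 24 35 (.branch (.clear 24 37 (.clear 32 33 (.clear 32 34 (.branch (.clear 24 41 (.branch (.branch (.branch (.branch (.clear 32 42 (.leaf [([0, 0, 0, 1], 1), ([-1, 0, 0, 0], 1)] [0, 1, 2, 1, 0, 2] 5)) (.clear 46 24 (.dead 24 46 47))) (.branch (.clear 45 26 (.leaf [([0, 0, 0, 1], 1), ([-1, 0, 0, 0], 1), ([0, 1, 0, 0], 1)] [2, 1, 0, 2] 8)) (.clear 46 24 (.dead 24 46 47)))) (.branch (.branch (.clear 32 42 (.leaf [([0, 0, 0, 1], 1), ([0,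 0, 2, 1], 1), ([1, 0, 2, 1], 0)] [2, 1, 0, 2] 9)) (.clear 46 24 (.dead 24 46 47))) (.branch (.clear 45 26 (.leaf [([0, 0, 0, 1], 1), ([0, 1, 2, 1], 1), ([1, 1, 2, 1], 0), ([0, 1, 0, 0], 1)] [2, 1, 0, 2] 11)) (.clear 46 24 (.dead 24 46 47))))) (.clear 43 27 (.branch (.branch (.clear 43 31 (.leaf [([0, 0, 0, 1], 1), ([-1, -1, 0, 0], 1), ([0, -1, 0, 0], 1)] [2, 1, 0, 2, 1] 8)) (.clear 46 24 (.dead 24 46 47))) (.branch (.clear 45 26 (.leaf [([0, 0, 0, 1], 1), ([0, 1, 2, 1], 1), ([1, 1, 2, 1], 1), ([1, 2, 2, 1], 1)] [2] 12)) (.clear 46 24 (.dead 24 46 47))))))) (.clear 41 24 (.dead 24 41 42)))))) (.clear 37 24 (.dead 24 37 38)))) (.clear 35 24 (.dead 24 35 36))) (.branch (.clear 34 26 (.branch (.clear 34 29 (.clear 32 33 (.clear 34 32 (.dead 32 34 40)))) (.clear 37 24 (.dead 24 37 38)))) (.clear 35 24 (.dead 24 35 36)))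

/-- part of the tree -/
def treeF4_44 : Node :=
  .branch (.branch (treeF4_42) (.clear 33 27 (.branch (.clear 33 29 (.branch (.clear 33 31 (.clear 33 32 (.branch (.branch (.clear 24 41 (.branch (.clear 33 40 (.branch (.branch (.clear 24 46 (.leaf [([0, 0, -1, 0], 0), ([0, -1, 0, 0], 0)] [1, 2, 1, 0, 2, 1, 3, 2, 1, 2] 4)) (.clear 46 24 (.dead 24 46 47))) (.branch (.clear 45 26 (.leaf [([0, 0, 0, 1], 1), ([0, -1, -2, -1], 0), ([0, 0, -2, -1], 1)] [1, 3, 2, 1, 2] 9)) (.clear 46 24 (.dead 24 46 47))))) (.clear 33 40 (.branch (.branch (.clear 24 46 (.leaf [([0, 0, 0, 1], 1), ([1, 1, 0, 0], 0), ([-1, -2, 0, 0], 1)] [2, 1, 0, 2, 1, 3, 2, 1, 2] 6)) (.clear 46 24 (.dead 24 46 47))) (.branch (.clear 45 26 (.leaf [([0, 0, 0, 1], 1), ([0, -1, -2, -1], 0), ([1, 2, 4, 2], 1), ([1, 2, 2, 1], 1)] [1, 3, 2, 1, 2] 11)) (.clear 46 24 (.dead 24 46 47))))))) (.clear 41 24 (.dead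 24 41 42))) (.branch (.clear 24 41 (.branch (.clear 40 33 (.dead 33 40 44)) (.clear 40 33 (.dead 33 40 44)))) (.clear 41 24 (.dead 24 41 42)))))) (.clear 37 24 (.dead 24 37 38)))) (.clear 35 24 (.dead 24 35 36))))) (.branch (treeF4_43) (.clear 33 27 (.branch (.clear 33 29 (.branch (.clear 33 31 (.clear 33 32 (.dead 32 33 39))) (.clear 37 24 (.dead 24 37 38)))) (.clear 35 24 (.dead 24 35 36)))))

/-- part of the tree -/
def treeF4_45 : Node :=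
  .branch (.branch (.clear 27 33 (.branch (.clear 24 35 (.branch (.clear 27 36 (.branch (.clear 27 39 (.branch (.clear 24 41 (.branch (.clear 27 43 (.branch (.branch (.clear 24 46 (.leaf [([1, 0, -1, 0], 0), ([-1, 0, 0, 0], 0)] [1, 2, 1, 0, 2, 3, 2, 1, 0, 2] 4)) (.clear 46 24 (.dead 24 46 47))) (.branch (.clear 24 46 (.leaf [([0, 0, 0, 1], 1), ([-1, 0, 0, 0], 0), ([2, 1, 0, 0], 1)] [2, 1, 0, 2, 3, 2, 1, 0, 2] 6)) (.clear 46 24 (.dead 24 46 47))))) (.clear 43 27 (.dead 27 43 44)))) (.clear 41 24 (.dead 24 41 42)))) (.clear 39 27 (.dead 27 39 40)))) (.clear 37 24 (.dead 24 37 38)))) (.clear 35 24 (.dead 24 35 36)))) (.clear 33 27 (.dead 27 33 34))) (.branch (.clear 27 33 (.branch (.clear 24 35 (.branch (.clear 27 36 (.branch (.clear 32 34 (.branch (.clear 24 41 (.branch (.clear 27 43 (.branch (.branch (.clear 32 42 (.leaf [([0, 0, 0, 1], 1), ([-1, -1, -2, -1],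 0), ([0, 1, 2, 1], 1)] [3, 2, 1, 0, 2] 9)) (.clear 46 24 (.dead 24 46 47))) (.branch (.clear 32 42 (.leaf [([0, 0, 0, 1], 1), ([-1, -1, -2, -1], 0), ([0, 1, 2, 1], 1), ([2, 3, 4, 2], 1)] [3, 2, 1, 0, 2] 11)) (.clear 46 24 (.dead 24 46 47))))) (.clear 43 27 (.dead 27 43 44)))) (.clear 41 24 (.dead 24 41 42)))) (.clear 39 27 (.dead 27 39 40)))) (.clear 37 24 (.dead 24 37 38)))) (.clear 35 24 (.dead 24 35 36)))) (.clear 33 27 (.dead 27 33 34)))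

/-- the tree -/
def treeF4 : Node := .branch (treeF4_40) (.branch (.clear 24 25 (.branch (.branch (.clear 24 28 (.branch (.clear 24 30 (treeF4_44)) (.clear 30 24 (.dead 24 30 31)))) (.clear 28 24 (.dead 24 28 29))) (.branch (.clear 27 26 (.branch (.clear 24 30 (treeF4_45)) (.clear 30 24 (.dead 24 30 31)))) (.clear 28 24 (.dead 24 28 29))))) (.clear 25 24 (.dead 24 25 26)))

/-- the representatives -/
def repsF4 : List (List ℕ) := [[], [47], [44], [47, 44], [39, 45], [43, 45], [40, 43, 45], [38, 45, 46], [32, 43, 45], [32, 38, 43], [38, 42, 43, 46], [32, 38, 43, 45], [26, 31, 42, 46]]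

/-- the reductions -/
def redsF4 : List Red := [
  ⟨[], [43, 45], [27], [43, 44], [3, 2, 1], 3⟩,
  ⟨[], [40, 43, 45], [27, 33], [40, 43], [1], 4⟩,
  ⟨[2], [39, 45, 46], [25], [39, 45], [], 4⟩,
  ⟨[], [32, 43, 45], [27], [32, 43, 44], [0, 1], 6⟩,
  ⟨[], [32, 38, 43], [25, 33], [32, 38, 47], [2, 1, 3, 2, 1, 0, 2], 7⟩,
  ⟨[2, 1], [36, 43, 45, 46], [25], [36, 43, 45], [1, 2, 1, 2], 6⟩,
  ⟨[], [32, 38, 43, 45], [27, 35], [32, 38, 43], [], 9⟩,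
  ⟨[], [26, 31, 42, 46], [27], [26, 29, 42, 46], [1, 0, 2, 1], 11⟩]

end CfsgLib.Lie.CharTwo
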