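import Cfsg.Agent.Lib.Lie.CharTwo.Tree
import Cfsg.Agent.Lib.Lie.Laced.Classes
import Cfsg.Agent.Lib.Lie.Chev.Bruhat
import Cfsg.Agent.Lib.Lie.Chev.SylowU
import Cfsg.Agent.Lib.Lie.Chev.WCl

/-!
# Involutions in characteristic two from a tree of normal forms
-/

set_option autoImplicit false
set_option linter.style.haveILetI false

namespace CfsgLib.Lie.CharTwo

open Cfsg.Lie CfsgLib.Lie.Chev CfsgLib.Lie.Laced
open scoped MatrixGroups

/-- the reduction of a representative to an earlier one -/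
structure Red where
  /-- the word bringing the representative to the list -/
  w1 : List ℕ
  /-- the list -/
  T : List ℕ
  /-- the conjugating word -/
  L : List ℕ
  /-- the collected result -/
  out : List ℕ
  /-- the word bringing the result to the earlier representative -/
  w2 : List ℕ
  /-- the index of the earlier representative -/
  j : ℕ

variable (D : ChevalleyDatum) (f : Fast)

/-- all representatives are commuting positive lists -/
noncomputable def repsB (reps : List (List ℕ)) : Bool :=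
  allList reps fun R => allList R (posB D f) && commB D f R

/-- the reduction step is valid -/
noncomputable def redB (N : ℕ) (reps : List (List ℕ)) (i : ℕ) (r : Red) : Bool :=
  Nat.blt r.j i && allList r.T (posB D f) && allList r.L (posB D f) && allList r.out (posB D f) &&
    commB D f r.out && mapsB D f r.w1 (reps.getD i []) r.T && mapsB D f r.w2 r.out (reps.getD r.j []) &&
    (collect2 D f N (r.L ++ r.T ++ r.L.reverse) == collect2 D f N r.out)

/-- all representatives after the first `nt + 1` reduce -/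
noncomputable def redsB (N nt : ℕ) (reps : List (List ℕ)) (reds : List Red) : Bool :=
  allLt reps.length fun i => cond (Nat.ble i nt) true
    (redB D f N reps i (reds.getD (i - (nt + 1)) ⟨[], [], [], [], [], i⟩))

variable {D f} {C : Full D} {K : Type*} [Field K] [CharP K 2]
variable (h : RowsOK D f) (hk : KeysOK D)

include h in
omit [CharP K 2] in
theorem repsB_spec {reps : List (List ℕ)} (hr : repsB D f reps = true) (i : ℕ) :
    (∀ r ∈ reps.getD i [], D.IsPosRoot r) ∧ commB D f (reps.getD i []) = true := by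
  by_cases hi : i < reps.length
  · have := allList_spec hr _ (List.getElem_mem hi)
    rw [Bool.and_eq_true] at this
    rw [List.getD_eq_getElem _ _ hi]
    exact ⟨fun r hr => posB_spec h (allList_spec this.1 r hr), this.2⟩
  · rw [List.getD_eq_default _ _ (not_lt.1 hi)]
    exact ⟨by simp, rfl⟩

include h hk

theorem nprod_sq {T : List ℕ} (hT : ∀ r ∈ T, D.IsPosRoot r) (hc : commB D f T = true) :
    nprod C (K := K) T * nprod C T = 1 := by
  induction T with
  | nil => simp [nprod]
  | cons a T ih =>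
    have hT' : ∀ r ∈ T, D.IsPosRoot r := fun r hr => hT r (List.mem_cons_of_mem _ hr)
    simp only [commB, Bool.and_eq_true] at hc
    have ha := hT a List.mem_cons_self
    have hcm : Commute (xn C (K := K) a) (nprod C T) := by
      refine Commute.list_prod_right _ _ fun y hy => ?_
      obtain ⟨b, hb, rfl⟩ := List.mem_map.1 hy
      rw [xn, xn, dif_pos ha.1, dif_pos (hT' b hb).1]
      have h2 := (swap_terms C h hk (r := ⟨a, ha.1⟩) (s := ⟨b, (hT' b hb).1⟩) ha (hT' b hb) (1 : K) 1).1
      rw [List.isEmpty_iff.1 (allList_spec hc.1 b hb)] at h2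
      simp only [tprod, List.map_nil, List.prod_nil, mul_one] at h2
      exact h2.symm
    rw [nprod_cons]
    calc xn C (K := K) a * nprod C T * (xn C a * nprod C T)
        = xn C a * (nprod C T * xn C a) * nprod C T := by group
      _ = xn C a * xn C a * (nprod C T * nprod C T) := by rw [← hcm.eq]; group
      _ = 1 := by rw [ih hT' hc.2, mul_one, xn, dif_pos ha.1, xu_sq]

theorem red_cj (hc : Checks D f) {N : ℕ} {reps : List (List ℕ)} (hr : repsB D f reps = true) {i : ℕ} {r : Red}
    (hb : redB D f N reps i r = true) :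
    r.j < i ∧ Cj (nprod C (K := K) (reps.getD i [])) (nprod C (reps.getD r.j [])) := by
  simp only [redB, Bool.and_eq_true, Nat.blt_eq, beq_iff_eq] at hb
  obtain ⟨⟨⟨⟨⟨⟨⟨hj, hT⟩, hL⟩, hO⟩, hOc⟩, hm1⟩, hm2⟩, hcol⟩ := hb
  have hTp : ∀ x ∈ r.T, D.IsPosRoot x := fun x hx => posB_spec h (allList_spec hT x hx)
  have hLp : ∀ x ∈ r.L, D.IsPosRoot x := fun x hx => posB_spec h (allList_spec hL x hx)
  have hOp : ∀ x ∈ r.out, D.IsPosRoot x := fun x hx => posB_spec h (allList_spec hO x hx)
  obtain ⟨hRp, hRc⟩ := repsB_spec h hr i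
  obtain ⟨hRjp, -⟩ := repsB_spec h hr r.j
  refine ⟨hj, (cj_maps h hk hc hRp hRc (fun x hx => (hTp x hx).1) hm1).trans
    (Cj.trans ⟨nprod C r.L, nprod_mem _, ?_⟩ (cj_maps h hk hc hOp hOc (fun x hx => (hRjp x hx).1) hm2))⟩
  have hrev : ∀ l : List ℕ, (nprod C (K := K) l)⁻¹ = nprod C l.reverse := by
    intro l
    induction l with
    | nil => simp [nprod]
    | cons a l ih =>
      rw [nprod_cons, _root_.mul_inv_rev, ih, List.reverse_cons, nprod_append]
      congr 1
      unfold nprod xn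
      simp only [List.map_cons, List.map_nil, List.prod_cons, List.prod_nil, mul_one]
      split
      · exact xu_inv_self C _ _
      · exact inv_one
  rw [hrev, ← nprod_append, ← nprod_append]
  refine nprod_eq_of_collect2 h hk (N := N) ?_ hOp hcol
  intro x hx
  simp only [List.mem_append, List.mem_reverse] at hx
  rcases hx with (hx | hx) | hx
  exacts [hLp x hx, hTp x hx, hLp x hx]

theorem reduce (hc : Checks D f) {N nt : ℕ} {reps : List (List ℕ)} {reds : List Red}
    (hr : repsB D f reps = true) (hd : redsB D f N nt reps reds = true) :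
    ∀ i < reps.length, ∃ t ≤ nt, Cj (nprod C (K := K) (reps.getD i [])) (nprod C (reps.getD t [])) := by
  intro i
  induction i using Nat.strong_induction_on with
  | _ i ih =>
    intro hi
    by_cases hle : i ≤ nt
    · exact ⟨i, hle, 1, one_mem _, by simp⟩
    · have := allLt_spec hd i hi
      rw [show Nat.ble i nt = false by simpa [← Bool.not_eq_true, Nat.ble_eq] using hle, cond_false] at this
      obtain ⟨hj, hcj⟩ := red_cj (C := C) (K := K) h hk hc hr this
      obtain ⟨t, ht, hcj'⟩ := ih _ hj (by omega)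
      exact ⟨t, ht, hcj.trans hcj'⟩

omit h hk in
theorem exists_pos [Fintype K] {g : GL D.Idx K} (hg : g ∈ D.group K) (hgg : orderOf g = 2) :
    ∃ g' ∈ C.G.Uge (K := K) 0, g' * g' = 1 ∧ Cj g g' := by
  haveI : Fact (Nat.Prime 2) := ⟨Nat.prime_two⟩
  obtain ⟨P₀, hP₀⟩ := C.exists_sylow (F := K) 2
  set g₁ : ↥(D.group K) := ⟨g, hg⟩
  have hg2 : orderOf g₁ = 2 := (Subgroup.orderOf_coe g₁).symm.trans hgg
  obtain ⟨Q, hQ⟩ := (IsPGroup.of_card (p := 2) (n := 1) (G := ↥(Subgroup.zpowers g₁))
    (by rw [Nat.card_zpowers, hg2, pow_one])).exists_le_sylow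
  obtain ⟨x, hx⟩ := MulAction.exists_smul_eq ↥(D.group K) Q P₀
  have hmem : x * g₁ * x⁻¹ ∈ (P₀ : Subgroup ↥(D.group K)) := by
    rw [← hx, Sylow.coe_subgroup_smul]
    exact Subgroup.smul_mem_pointwise_smul _ (MulAut.conj x) _ (hQ (Subgroup.mem_zpowers g₁))
  rw [hP₀, Subgroup.mem_subgroupOf, C.G.posUnipotent_eq] at hmem
  have hsq : g * g = 1 := by rw [← pow_two, ← hgg]; exact pow_orderOf_eq_one g
  refine ⟨(x : GL D.Idx K) * g * (x : GL D.Idx K)⁻¹, hmem, ?_, x, x.2, rfl⟩
  calc (x : GL D.Idx K) * g * (x : GL D.Idx K)⁻¹ * ((x : GL D.Idx K) * g * (x : GL D.Idx K)⁻¹)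
      = (x : GL D.Idx K) * (g * g) * (x : GL D.Idx K)⁻¹ := by group
    _ = 1 := by rw [hsq, mul_one, mul_inv_cancel]

theorem classify [Fintype K] (hc : Checks D f) {k₀ N nt : ℕ} {reps : List (List ℕ)} {reds : List Red} {nd : Node}
    (hskip : ∀ m < k₀, ¬ D.IsPosRoot m) (h0 : reps.getD 0 [] = []) (hr : repsB D f reps = true)
    (hd : redsB D f N nt reps reds = true) (htree : nodeB D f reps nd k₀ [] = true)
    {g : GL D.Idx K} (hg : g ∈ D.group K) (hgg : orderOf g = 2) :
    ∃ t, 1 ≤ t ∧ t ≤ nt ∧ Cj g (nprod C (reps.getD t [])) := by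
  obtain ⟨g', hg', hsq, hcj⟩ := exists_pos (C := C) hg hgg
  have hU : ∀ m ≤ k₀, C.G.Uge (K := K) 0 = C.G.Uge m := by
    intro m
    induction m with
    | zero => intro _; rfl
    | succ m ih => intro hm; rw [ih (by omega), C.Uge_skip (hskip m (by omega))]
  rw [hU k₀ le_rfl] at hg'
  obtain ⟨j, hj, hcj'⟩ := node_spec h hk hc (fun i r hr' => ((repsB_spec h hr i).1 r hr').1) nd k₀ [] htree
    (by simp) (fun _ => 0) g' (by simp) ⟨g', hg', (one_mul g').symm⟩ hsq
  obtain ⟨t, ht, hcj''⟩ := reduce (C := C) (K := K) h hk hc hr hd j hj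
  have hfin := hcj.trans (hcj'.trans hcj'')
  refine ⟨t, ?_, ht, hfin⟩
  by_contra h1
  obtain rfl : t = 0 := by omega
  obtain ⟨x, -, e⟩ := hfin
  rw [h0, show nprod C (K := K) [] = 1 from rfl, mul_inv_eq_one, mul_eq_left] at e
  rw [e, orderOf_one] at hgg
  omega

omit hk in
theorem not_cj_root [Finite K] (hc : Checks D f) (long : ℕ → Bool) {top s : Fin D.nroots}
    (htop : top.val + 1 = D.nroots) (hpt : D.IsPosRoot top.val) (hps : D.IsPosRoot s.val)
    (hlong : long top.val = true) (hshort : long s.val = false)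
    (hclosed : (allLt D.rank fun i => allLt D.nroots fun r => cond (long r) (long (wF f i r)) true) = true)
    {g : GL D.Idx K} (hg : g ∈ D.group K) : g * C.G.xu s (1 : K) * g⁻¹ ≠ C.G.xu top (1 : K) := by
  intro e
  obtain ⟨b, hb, n, hn, π, hπ, u, hu, rfl⟩ := C.refined_exists hg
  obtain ⟨l, hl⟩ := C.G.exists_nPerm hn
  obtain rfl := Good.NPerm.unique C.G hπ hl
  obtain ⟨x, hx⟩ : ∃ x, b⁻¹ * C.G.xu top (1 : K) * b = C.G.xu top x := by
    have hmem : b⁻¹ * C.G.xu top (1 : K) * b⁻¹⁻¹ ∈ C.G.Uge (K := K) top.val := by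
      obtain ⟨v, hv, d, hd, rfl⟩ := C.G.mem_borel_iff.1 hb
      rw [C.G.posUnipotent_eq] at hv
      have h1 := (Subgroup.mem_normalizer_iff.1 (C.Uge_normal (K := K) (m := top.val) (inv_mem hv))
        (C.G.xu top (1 : K))).1 (C.G.xu_mem_Uge (r := top) (le_refl _) hpt (1 : K))
      have h2 := C.G.H_normalizes_Uge (inv_mem hd) h1
      rw [show (v * d)⁻¹ * C.G.xu top (1 : K) * (v * d)⁻¹⁻¹ =
        d⁻¹ * (v⁻¹ * C.G.xu top (1 : K) * v⁻¹⁻¹) * d⁻¹⁻¹ by group]
      exact h2
    obtain ⟨x, v, hv, e'⟩ := C.Uge_step (r := top) hpt hmem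
    rw [C.G.Uge_top (m := top.val + 1) htop.ge, Subgroup.mem_bot] at hv
    rw [hv, mul_one, inv_inv] at e'
    exact ⟨x, e'⟩
  obtain ⟨c, hc'⟩ := Good.NPerm.inv C.G hπ top
  have e1 : u * C.G.xu s (1 : K) * u⁻¹ = n⁻¹ * C.G.xu top x * n⁻¹⁻¹ := by rw [← hx, ← e]; group
  rw [hc'] at e1
  have hrl : long ((C.G.pw l)⁻¹ top).val = true := by
    have : ∀ l' : List (Fin D.rank), long (C.G.pw l' top).val = true := by
      intro l'
      rw [C.G.pw_val hc]
      induction l' with
      | nil => exact hlong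
      | cons i l' ih =>
        have hlt : wordF f (l'.map Fin.val) top.val < D.nroots := by
          rw [← C.G.pw_val hc]; exact (C.G.pw l' top).isLt
        have := allLt_spec (allLt_spec hclosed i.val i.isLt) _ hlt
        rw [ih, cond_true] at this
        exact this
    rw [← C.G.pw_reverse]
    exact this _
  generalize (C.G.pw l)⁻¹ top = r at e1 hrl
  have huU : u ∈ D.posUnipotent K := C.G.Uinv_le _ hu
  have hu0 : u ∈ C.G.Uge (K := K) 0 := C.G.posUnipotent_eq (K := K) ▸ huU
  have hsm : C.G.xu s (1 : K) ∈ C.G.Uge (K := K) s.val := C.G.xu_mem_Uge (r := s) (le_refl _) hps (1 : K)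
  set v := (C.G.xu s (1 : K))⁻¹ * (u * C.G.xu s (1 : K) * u⁻¹) with hv
  have hvm : v ∈ C.G.Uge (K := K) (s.val + 1) := by
    have := C.Uge_comm_mem (inv_mem hsm) hu0
    rw [inv_inv] at this
    rw [hv]
    simpa [mul_assoc] using this
  have e2 : C.G.xu s (1 : K) * v = C.G.xu r ((c : K) * x) := by rw [hv, mul_inv_cancel_left]; exact e1
  have hfinal : C.G.xu r ((c : K) * x) = 1 → False := fun h1 => by
    rw [h1] at e2
    exact one_ne_zero (C.G.lowest_unique (r := s) (t := (1 : K)) (t' := 0) (v := v) (v' := 1) hps hvm (one_mem _)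
      (by rw [e2, C.G.xu_zero, one_mul])).1
  by_cases hr : D.IsPosRoot r.val
  · rcases lt_trichotomy r.val s.val with hlt | heq | hgt
    · have h0 := C.G.lowest_unique (r := r) (t := (0 : K)) (t' := (c : K) * x) (v := C.G.xu s (1 : K) * v) (v' := 1)
        hr (mul_mem (C.G.Uge_mono hlt hsm) (C.G.Uge_mono (by omega) hvm)) (one_mem _)
        (by rw [C.G.xu_zero, one_mul, mul_one, e2])
      exact hfinal (by rw [← h0.1, C.G.xu_zero])
    · rw [heq, hshort] at hrl
      exact Bool.false_ne_true hrl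
    · exact one_ne_zero (C.G.lowest_unique (r := s) (t := (1 : K)) (t' := 0) (v := v)
        (v' := C.G.xu r ((c : K) * x)) hps hvm (C.G.xu_mem_Uge hgt hr _) (by rw [e2, C.G.xu_zero, one_mul])).1
  · have hneg : D.IsNegRoot r.val := (C.G.isNegRoot_iff_not_pos r).2 hr
    have hU : u * C.G.xu s (1 : K) * u⁻¹ ∈ D.posUnipotent K :=
      mul_mem (mul_mem huU (C.G.xu_mem_U (r := s) hps (1 : K))) (inv_mem huU)
    rw [e1] at hU
    exact hfinal (Subgroup.mem_bot.1 (C.G.U_inf_V_eq (K := K) ▸ ⟨hU, C.G.xu_mem_V hneg _⟩))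

end CfsgLib.Lie.CharTwo
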