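import Cfsg.Agent.Lib.Lie.CharTwo.Rel
import Cfsg.Agent.Lib.Lie.Chev.Unip

/-!
# Symbolic collection of words of root elements in characteristic two

Parameters are polynomials over the field of two elements, a monomial being a sorted list of variables.
-/

set_option autoImplicit false
set_option linter.style.haveILetI false

namespace CfsgLib.Lie.CharTwo.Sym

open Cfsg.Lie CfsgLib.Lie.Chev
open scoped MatrixGroups

/-- a polynomial -/
abbrev Poly := List (List ℕ)

/-- a word -/
abbrev Word := List (ℕ × Poly)

/-- the order on monomials -/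
noncomputable def mlt : List ℕ → List ℕ → Bool
  | [], [] => false
  | [], _ :: _ => true
  | _ :: _, [] => false
  | a :: s, b :: t => Nat.blt a b || (Nat.beq a b && mlt s t)

/-- equality of monomials -/
noncomputable def meq : List ℕ → List ℕ → Bool
  | [], [] => true
  | a :: s, b :: t => Nat.beq a b && meq s t
  | _, _ => false

theorem eq_of_meq : ∀ s t, meq s t = true → s = t := by
  intro s
  induction s with
  | nil => intro t h; cases t with
    | nil => rfl
    | cons b t => simp [meq] at h
  | cons a s ih => intro t h; cases t with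
    | nil => simp [meq] at h
    | cons b t =>
      simp only [meq, Bool.and_eq_true, Nat.beq_eq] at h
      rw [h.1, ih t h.2]

/-- insertion of a variable in a monomial -/
noncomputable def vins (a : ℕ) : List ℕ → List ℕ
  | [] => [a]
  | b :: t => cond (Nat.blt b a) (b :: vins a t) (a :: b :: t)

/-- the product of monomials -/
noncomputable def mmul (s t : List ℕ) : List ℕ := s.foldr vins t

/-- the sum of a polynomial and a monomial -/
noncomputable def pins (m : List ℕ) : Poly → Poly
  | [] => [m]
  | h :: t => cond (meq m h) t (cond (mlt m h) (m :: h :: t) (h :: pins m t))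

/-- the sum -/
noncomputable def padd (p q : Poly) : Poly := p.foldr pins q

/-- the product -/
noncomputable def pmul (p q : Poly) : Poly :=
  p.foldr (fun m r => q.foldr (fun n r => pins (mmul m n) r) r) []

/-- the powers -/
noncomputable def ppow (p : Poly) (n : ℕ) : Poly := Nat.rec [[]] (fun _ r => pmul p r) n

/-- a variable -/
noncomputable def v (i : ℕ) : Poly := [[i]]

variable {K : Type*} [Field K] (ρ : ℕ → K)

/-- the value of a monomial -/
noncomputable def mev (m : List ℕ) : K := (m.map ρ).prod

/-- the value of a polynomial -/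
noncomputable def ev (p : Poly) : K := (p.map (mev ρ)).sum

theorem ev_nil : ev ρ [] = 0 := rfl

theorem ev_cons (m : List ℕ) (p : Poly) : ev ρ (m :: p) = mev ρ m + ev ρ p := rfl

theorem ev_v (i : ℕ) : ev ρ (v i) = ρ i := by simp [v, ev, mev]

theorem ev_one : ev ρ [[]] = 1 := by simp [ev, mev]

theorem mev_vins (a : ℕ) : ∀ t, mev ρ (vins a t) = ρ a * mev ρ t := by
  intro t
  induction t with
  | nil => rfl
  | cons b t ih =>
    simp only [vins]
    cases Nat.blt b a with
    | true =>
      show ρ b * mev ρ (vins a t) = ρ a * (ρ b * mev ρ t)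
      rw [ih]; ring
    | false => rfl

theorem mev_mmul (s t : List ℕ) : mev ρ (mmul s t) = mev ρ s * mev ρ t := by
  induction s with
  | nil => exact (one_mul _).symm
  | cons a s ih =>
    show mev ρ (vins a (mmul s t)) = _
    rw [mev_vins, ih, ← mul_assoc]
    rfl

variable [CharP K 2]

theorem ev_pins (m : List ℕ) : ∀ p, ev ρ (pins m p) = mev ρ m + ev ρ p := by
  intro p
  induction p with
  | nil => rfl
  | cons h t ih =>
    simp only [pins]
    cases hm : meq m h with
    | true =>
      rw [eq_of_meq m h hm, cond_true, ev_cons, ← add_assoc, CharTwo.add_self_eq_zero, zero_add]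
    | false =>
      cases mlt m h with
      | true => rfl
      | false =>
        simp only [cond_false, ev_cons, ih]
        ring

theorem ev_padd (p q : Poly) : ev ρ (padd p q) = ev ρ p + ev ρ q := by
  induction p with
  | nil => simp [padd, ev_nil]
  | cons m p ih =>
    show ev ρ (pins m (padd p q)) = _
    rw [ev_pins, ih, ev_cons, add_assoc]

theorem ev_pmul (p q : Poly) : ev ρ (pmul p q) = ev ρ p * ev ρ q := by
  induction p with
  | nil => simp [pmul, ev_nil]
  | cons m p ih =>
    have hq : ∀ (l : Poly) (r : Poly), ev ρ (l.foldr (fun n r => pins (mmul m n) r) r) = mev ρ m * ev ρ l + ev ρ r := by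
      intro l r
      induction l with
      | nil => simp [ev_nil]
      | cons n l ih' => rw [List.foldr_cons, ev_pins, mev_mmul, ih', ev_cons]; ring
    show ev ρ (q.foldr (fun n r => pins (mmul m n) r) (pmul p q)) = _
    rw [hq, ih, ev_cons]; ring

theorem ev_ppow (p : Poly) : ∀ n, ev ρ (ppow p n) = ev ρ p ^ n := by
  intro n
  induction n with
  | zero => exact (ev_one ρ).trans (pow_zero _).symm
  | succ n ih =>
    show ev ρ (pmul p (ppow p n)) = _
    rw [ev_pmul, ih, pow_succ']

variable (D : ChevalleyDatum) (f : Fast)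

/-- the correction terms of moving the letter `x` to the right of `h` -/
noncomputable def terms (x h : ℕ × Poly) : Word :=
  (oddF D f h.1 x.1).map fun c => (c.1, pmul (ppow h.2 c.2.1) (ppow x.2 c.2.2))

/-- insertion of a letter in a sorted word -/
noncomputable def ins (n : ℕ) : ℕ × Poly → Word → Word :=
  Nat.rec (motive := fun _ => ℕ × Poly → Word → Word) (fun x l => x :: l)
    (fun _ ih x l => match l with
      | [] => [x]
      | h :: rest => cond (Nat.blt x.1 h.1) (x :: h :: rest)
          (cond (Nat.beq x.1 h.1) ((x.1, padd x.2 h.2) :: rest)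
            (cond (x.2.isEmpty || h.2.isEmpty) (h :: ih x rest)
              (h :: ih x ((terms D f x h).foldr ih rest))))) n

/-- the collection over a list of roots -/
noncomputable def collect (N : ℕ) (L : List ℕ) (w : Word) : Word :=
  w.foldr (ins D f N) (L.map fun r => (r, []))

/-- the coordinate at a root -/
noncomputable def coord (k : ℕ) : Word → Poly
  | [] => []
  | h :: t => cond (Nat.beq h.1 k) h.2 (coord k t)

variable {D f} (C : Full D)

/-- the value of a letter -/
noncomputable def xp (x : ℕ × Poly) : GL D.Idx K := if h : x.1 < D.nroots then C.G.xu ⟨x.1, h⟩ (ev ρ x.2) else 1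

/-- the value of a word -/
noncomputable def wev (w : Word) : GL D.Idx K := (w.map (xp ρ C)).prod

omit [CharP K 2] in
theorem wev_nil : wev ρ C [] = 1 := rfl

omit [CharP K 2] in
theorem wev_cons (x : ℕ × Poly) (w : Word) : wev ρ C (x :: w) = xp ρ C x * wev ρ C w := by simp [wev]

omit [CharP K 2] in
theorem wev_append (a b : Word) : wev ρ C (a ++ b) = wev ρ C a * wev ρ C b := by simp [wev]

omit [CharP K 2] in
theorem xp_pos {x : ℕ × Poly} (hx : D.IsPosRoot x.1) : xp ρ C x = C.G.xu ⟨x.1, hx.1⟩ (ev ρ x.2) := dif_pos hx.1

theorem ins_spec (h : RowsOK D f) (hk : KeysOK D) : ∀ (n : ℕ) (x : ℕ × Poly) (l : Word),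
    D.IsPosRoot x.1 → (∀ y ∈ l, D.IsPosRoot y.1) →
    wev ρ C (ins D f n x l) = xp ρ C x * wev ρ C l ∧ ∀ y ∈ ins D f n x l, D.IsPosRoot y.1 := by
  intro n
  induction n with
  | zero =>
    intro x l hx hl
    exact ⟨wev_cons ρ C x l, fun y hy => by
      rcases List.mem_cons.1 hy with rfl | hy
      exacts [hx, hl y hy]⟩
  | succ n ih =>
    intro x l hx hl
    cases l with
    | nil => exact ⟨wev_cons ρ C x [], fun y hy => by rw [List.mem_singleton.1 hy]; exact hx⟩
    | cons a rest =>
      have ha := hl a List.mem_cons_self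
      have hr : ∀ y ∈ rest, D.IsPosRoot y.1 := fun y hy => hl y (List.mem_cons_of_mem _ hy)
      show wev ρ C (cond (Nat.blt x.1 a.1) (x :: a :: rest)
          (cond (Nat.beq x.1 a.1) ((x.1, padd x.2 a.2) :: rest)
            (cond (x.2.isEmpty || a.2.isEmpty) (a :: ins D f n x rest)
              (a :: ins D f n x ((terms D f x a).foldr (ins D f n) rest))))) = _ ∧
        ∀ y ∈ cond (Nat.blt x.1 a.1) (x :: a :: rest)
          (cond (Nat.beq x.1 a.1) ((x.1, padd x.2 a.2) :: rest)
            (cond (x.2.isEmpty || a.2.isEmpty) (a :: ins D f n x rest)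
              (a :: ins D f n x ((terms D f x a).foldr (ins D f n) rest)))), D.IsPosRoot y.1
      cases Nat.blt x.1 a.1 with
      | true =>
        exact ⟨by simp only [cond_true, wev_cons], fun y hy => by
          rcases List.mem_cons.1 hy with rfl | hy
          exacts [hx, hl y hy]⟩
      | false =>
        simp only [cond_false]
        cases hb : Nat.beq x.1 a.1 with
        | true =>
          have hb' := Nat.eq_of_beq_eq_true hb
          refine ⟨?_, fun y hy => by
            rcases List.mem_cons.1 hy with rfl | hy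
            exacts [hx, hr y hy]⟩
          simp only [cond_true, wev_cons, ← mul_assoc]
          congr 1
          rw [xp_pos ρ C hx, xp_pos ρ C ha]
          rw [xp_pos ρ C (x := (x.1, padd x.2 a.2)) hx, ev_padd, C.G.xu_add]
          congr 2
          exact Fin.ext hb'
        | false =>
          simp only [cond_false]
          cases hz : (x.2.isEmpty || a.2.isEmpty) with
          | true =>
            obtain ⟨e, hp⟩ := ih x rest hx hr
            refine ⟨?_, fun y hy => by
              rcases List.mem_cons.1 hy with rfl | hy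
              exacts [ha, hp y hy]⟩
            simp only [cond_true, wev_cons, e, ← mul_assoc]
            congr 1
            simp only [Bool.or_eq_true, List.isEmpty_iff] at hz
            rw [xp_pos ρ C hx, xp_pos ρ C ha]
            rcases hz with hz | hz <;> simp [hz, ev_nil, C.G.xu_zero]
          | false =>
            simp only [cond_false]
            obtain ⟨hsw, hT⟩ := swap_terms C h hk (r := ⟨a.1, ha.1⟩) (s := ⟨x.1, hx.1⟩) ha hx (ev ρ a.2) (ev ρ x.2)
            have key : ∀ T : Word, (∀ y ∈ T, D.IsPosRoot y.1) →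
                wev ρ C (T.foldr (ins D f n) rest) = wev ρ C T * wev ρ C rest ∧
                  ∀ y ∈ T.foldr (ins D f n) rest, D.IsPosRoot y.1 := by
              intro T hT'
              induction T with
              | nil => exact ⟨(one_mul _).symm, hr⟩
              | cons z T ihT =>
                obtain ⟨e, hp⟩ := ihT fun y hy => hT' y (List.mem_cons_of_mem _ hy)
                obtain ⟨e', hp'⟩ := ih z _ (hT' z List.mem_cons_self) hp
                exact ⟨by rw [List.foldr_cons, e', e, wev_cons, mul_assoc], hp'⟩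
            have hpos : ∀ y ∈ terms D f x a, D.IsPosRoot y.1 := by
              intro y hy
              obtain ⟨c, hc, rfl⟩ := List.mem_map.1 hy
              exact (hT c hc).1
            obtain ⟨e, hp⟩ := key _ hpos
            obtain ⟨e', hp'⟩ := ih x _ hx hp
            refine ⟨?_, fun y hy => by
              rcases List.mem_cons.1 hy with rfl | hy
              exacts [ha, hp' y hy]⟩
            simp only [wev_cons, e', e, ← mul_assoc]
            congr 1
            rw [xp_pos ρ C hx, xp_pos ρ C ha, hsw]
            congr 1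
            unfold wev terms tprod
            rw [List.map_map]
            congr 1
            refine List.map_congr_left fun c _ => ?_
            simp only [Function.comp_apply, xp, ev_pmul, ev_ppow]

theorem zeros_eq (L : List ℕ) : wev ρ C (L.map fun r => (r, [])) = 1 := by
  refine List.prod_eq_one fun g hg => ?_
  obtain ⟨x, hx, rfl⟩ := List.mem_map.1 hg
  obtain ⟨r, -, rfl⟩ := List.mem_map.1 hx
  unfold xp
  split
  · rw [ev_nil, C.G.xu_zero]
  · rfl

theorem collect_spec (h : RowsOK D f) (hk : KeysOK D) (N : ℕ) {L : List ℕ} (hL : ∀ r ∈ L, D.IsPosRoot r) :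
    ∀ w : Word, (∀ y ∈ w, D.IsPosRoot y.1) →
    wev ρ C (collect D f N L w) = wev ρ C w ∧ ∀ y ∈ collect D f N L w, D.IsPosRoot y.1 := by
  intro w
  induction w with
  | nil =>
    intro _
    exact ⟨zeros_eq ρ C L, fun y hy => by obtain ⟨r, hr, rfl⟩ := List.mem_map.1 hy; exact hL r hr⟩
  | cons x w ih =>
    intro hw
    obtain ⟨e, hp⟩ := ih fun y hy => hw y (List.mem_cons_of_mem _ hy)
    obtain ⟨e', hp'⟩ := ins_spec ρ C h hk N x _ (hw x List.mem_cons_self) hp
    exact ⟨by rw [wev_cons, ← e]; exact e', hp'⟩

omit [CharP K 2] in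
theorem wev_mem_Uge {m : ℕ} {w : Word} (hw : ∀ y ∈ w, m ≤ y.1 ∧ D.IsPosRoot y.1) :
    wev ρ C w ∈ C.G.Uge (K := K) m := by
  refine list_prod_mem fun g hg => ?_
  obtain ⟨x, hx, rfl⟩ := List.mem_map.1 hg
  rw [xp_pos ρ C (hw x hx).2]
  exact C.G.xu_mem_Uge (r := ⟨x.1, (hw x hx).2.1⟩) (hw x hx).1 (hw x hx).2 _

omit [CharP K 2] in
/-- the coordinates of sorted words are unique -/
theorem coord_unique (ρ' : ℕ → K) : ∀ (L : List ℕ), L.Pairwise (· < ·) → (∀ r ∈ L, D.IsPosRoot r) →
    ∀ a b : Word, a.map Prod.fst = L → b.map Prod.fst = L → wev ρ C a = wev ρ' C b →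
    ∀ k, ev ρ (coord k a) = ev ρ' (coord k b) := by
  intro L
  induction L with
  | nil =>
    intro _ _ a b ha hb _ k
    rw [List.map_eq_nil_iff] at ha hb
    subst ha hb
    rfl
  | cons r L ih =>
    intro hp hL a b ha hb e k
    obtain ⟨x, a, rfl⟩ : ∃ x a', a = x :: a' := by
      cases a with
      | nil => simp at ha
      | cons x a => exact ⟨x, a, rfl⟩
    obtain ⟨y, b, rfl⟩ : ∃ y b', b = y :: b' := by
      cases b with
      | nil => simp at hb
      | cons y b => exact ⟨y, b, rfl⟩
    rw [List.map_cons, List.cons.injEq] at ha hb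
    rw [List.pairwise_cons] at hp
    have hr := hL r List.mem_cons_self
    have hmem : ∀ (σ : ℕ → K) (w : Word), w.map Prod.fst = L → wev σ C w ∈ C.G.Uge (K := K) (r + 1) := by
      intro σ w hw
      refine wev_mem_Uge σ C fun z hz => ?_
      have hzL : z.1 ∈ L := hw ▸ List.mem_map_of_mem hz
      exact ⟨hp.1 _ hzL, hL _ (List.mem_cons_of_mem _ hzL)⟩
    rw [wev_cons, wev_cons, xp_pos ρ C (x := x) (ha.1.symm ▸ hr), xp_pos ρ' C (x := y) (hb.1.symm ▸ hr)] at e
    obtain ⟨x1, x2⟩ := x
    obtain ⟨y1, y2⟩ := y
    obtain ⟨ha1, ha⟩ := ha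
    obtain ⟨hb1, hb⟩ := hb
    dsimp only at ha1 hb1
    subst x1 y1
    obtain ⟨h1, h2⟩ := C.G.lowest_unique (r := ⟨r, hr.1⟩) hr (hmem ρ a ha) (hmem ρ' b hb) e
    simp only [coord]
    cases Nat.beq r k with
    | true => exact h1
    | false => exact ih hp.2 (fun z hz => hL z (List.mem_cons_of_mem _ hz)) a b ha hb h2 k

end CfsgLib.Lie.CharTwo.Sym
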