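import Cfsg.Agent.Lib.Lie.CharTwo.Rel

/-!
# Certificates for the classification of involutions in the unipotent subgroup

A node describes the elements `g` congruent, modulo the root elements of index at least `k`, to a product
of root elements with non-zero parameters over a list `T`.
-/

set_option autoImplicit false
set_option linter.style.haveILetI false

namespace CfsgLib.Lie.CharTwo

open Cfsg.Lie CfsgLib.Lie.Chev CfsgLib.Lie.Laced
open scoped MatrixGroups

/-- the nodes -/
inductive Node where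
  /-- a finished product, with torus weights, a word and the representative reached -/
  | leaf (mu : List (List ℤ × ℕ)) (word : List ℕ) (j : ℕ)
  /-- the square is not one -/
  | dead (a b w : ℕ)
  /-- the coordinate can be cleared -/
  | clear (r s : ℕ) (next : Node)
  /-- the coordinate is zero or not -/
  | branch (zero : Node) (nonzero : Node)

section checks

variable (D : ChevalleyDatum) (f : Fast) (reps : List (List ℕ))

/-- all terms lie above a bound -/
noncomputable def aboveB (w : ℕ) (L : List (ℕ × ℕ × ℕ)) : Bool := allList L fun c => Nat.blt w c.1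

/-- exactly one term hits the bound, the others lie above; the exponent of the second root is one or two -/
noncomputable def hitB (w : ℕ) (L : List (ℕ × ℕ × ℕ)) : Bool :=
  match L.filter (fun c => Nat.ble c.1 w) with
  | [c] => Nat.beq c.1 w && (Nat.beq c.2.2 1 || Nat.beq c.2.2 2)
  | _ => false

/-- no pair has a term up to the bound, except that the pair `(a, b)` hits it -/
noncomputable def pairsB (a b w : ℕ) : List ℕ → Bool
  | [] => false
  | x :: T => cond (Nat.beq x a)
      ((allList T fun y => cond (Nat.beq y b) (hitB w (oddF D f x y)) (aboveB w (oddF D f x y))) &&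
        T.any (Nat.beq b) && decide T.Nodup && noneB w T)
      ((allList T fun y => aboveB w (oddF D f x y)) && pairsB a b w T)
where
  /-- no pair has a term up to the bound -/
  noneB (w : ℕ) : List ℕ → Bool
    | [] => true
    | x :: T => (allList T fun y => aboveB w (oddF D f x y)) && noneB w T

/-- no pair has any term -/
noncomputable def commB : List ℕ → Bool
  | [] => true
  | x :: T => (allList T fun y => (oddF D f x y).isEmpty) && commB T

/-- the exponent of a cocharacter on a root -/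
noncomputable def muF (m : List ℤ) (r : ℕ) : ℤ :=
  ((List.range D.rank).map fun l => m.getD l 0 * cartF f l r).sum

/-- torus weights separating the roots -/
noncomputable def muB (T : List ℕ) (mu : List (List ℤ × ℕ)) : Bool :=
  Nat.beq mu.length T.length && decide T.Nodup && allLt T.length fun i => allLt T.length fun j =>
    intBeq (muF D f (mu.getD i ([], 0)).1 (T.getD j 0)) (cond (Nat.beq i j) (2 ^ (mu.getD i ([], 0)).2) 0)

/-- the certificate of a node -/
noncomputable def nodeB : Node → ℕ → List ℕ → Bool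
  | .leaf mu word j, k, T => Nat.beq k D.nroots && commB D f T && muB D f T mu && Nat.blt j reps.length &&
      mapsB D f word T (reps.getD j [])
  | .dead a b w, k, T => Nat.blt w k && pairsB D f a b w T
  | .clear r s next, k, T => Nat.blt k D.nroots && posB D f k && posB D f s && T.any (Nat.beq r) &&
      decide T.Nodup &&
      (allList T fun a => cond (Nat.beq a r) (hitB k (oddF D f a s)) (aboveB k (oddF D f a s))) &&
      nodeB next (k + 1) T
  | .branch z nz, k, T => Nat.blt k D.nroots && posB D f k && nodeB z (k + 1) T && nodeB nz (k + 1) (T ++ [k])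

end checks

variable {D : ChevalleyDatum} {f : Fast} (C : Full D) {K : Type*} [Field K]

/-- a root element by index -/
noncomputable def xc (r : ℕ) (c : K) : GL D.Idx K := if h : r < D.nroots then C.G.xu ⟨r, h⟩ c else 1

/-- the product over a list with parameters -/
noncomputable def pc (T : List ℕ) (c : ℕ → K) : GL D.Idx K := (T.map fun r => xc C r (c r)).prod

/-- congruence modulo the root elements of large index -/
def Cong (k : ℕ) (g h : GL D.Idx K) : Prop := ∃ v ∈ C.G.Uge (K := K) k, g = h * v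

variable {C}

theorem Cong.refl (k : ℕ) (g : GL D.Idx K) : Cong C k g g := ⟨1, one_mem _, (mul_one g).symm⟩

theorem Cong.trans {k : ℕ} {g h l : GL D.Idx K} (h1 : Cong C k g h) (h2 : Cong C k h l) : Cong C k g l := by
  obtain ⟨v, hv, rfl⟩ := h1
  obtain ⟨w, hw, rfl⟩ := h2
  exact ⟨w * v, mul_mem hw hv, by group⟩

theorem Cong.mono {k k' : ℕ} {g h : GL D.Idx K} (hk : k' ≤ k) (h1 : Cong C k g h) : Cong C k' g h := by
  obtain ⟨v, hv, rfl⟩ := h1
  exact ⟨v, C.G.Uge_mono hk hv, rfl⟩

theorem conj_mem {m : ℕ} {g v : GL D.Idx K} (hg : g ∈ C.G.Uge (K := K) 0) (hv : v ∈ C.G.Uge (K := K) m) :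
    g * v * g⁻¹ ∈ C.G.Uge (K := K) m := (Subgroup.mem_normalizer_iff.1 (C.Uge_normal hg) v).1 hv

theorem Cong.mul {k : ℕ} {g h g' h' : GL D.Idx K} (h1 : Cong C k g h) (h2 : Cong C k g' h')
    (hh : h' ∈ C.G.Uge (K := K) 0) : Cong C k (g * g') (h * h') := by
  obtain ⟨v, hv, rfl⟩ := h1
  obtain ⟨w, hw, rfl⟩ := h2
  refine ⟨h'⁻¹ * v * h'⁻¹⁻¹ * w, mul_mem (conj_mem (inv_mem hh) hv) hw, by group⟩

theorem Cong.one_iff {k : ℕ} {g : GL D.Idx K} : Cong C k g 1 ↔ g ∈ C.G.Uge (K := K) k :=
  ⟨fun ⟨v, hv, e⟩ => by rw [e, one_mul]; exact hv, fun h => ⟨g, h, (one_mul g).symm⟩⟩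

theorem comm_mem' {w : ℕ} {x p : GL D.Idx K} (hx : x ∈ C.G.Uge (K := K) w) (hp : p ∈ C.G.Uge (K := K) 0) :
    Cong C (w + 1) (x * p) (p * x) := by
  refine ⟨x⁻¹ * p⁻¹ * x * p, ?_, by group⟩
  have h1 := C.Uge_comm_mem (inv_mem hx) (inv_mem hp)
  simpa [mul_assoc] using h1

theorem xc_mem {r : ℕ} (hr : D.IsPosRoot r) (c : K) : xc C r c ∈ C.G.Uge (K := K) 0 := by
  rw [xc, dif_pos hr.1]; exact C.G.xu_mem_Uge (Nat.zero_le _) hr c

theorem pc_mem {T : List ℕ} (hT : ∀ r ∈ T, D.IsPosRoot r) (c : ℕ → K) : pc C T c ∈ C.G.Uge (K := K) 0 := by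
  refine list_prod_mem fun y hy => ?_
  obtain ⟨r, hr, rfl⟩ := List.mem_map.1 hy
  exact xc_mem (hT r hr) _

variable [CharP K 2]

theorem xc_sq (r : ℕ) (c : K) : xc C r c * xc C r c = 1 := by
  unfold xc
  split
  · exact xu_sq C _ _
  · exact one_mul 1

theorem xc_inv (r : ℕ) (c : K) : (xc C r c)⁻¹ = xc C r c := inv_eq_of_mul_eq_one_right (xc_sq r c)

theorem tprod_above {w : ℕ} {L : List (ℕ × ℕ × ℕ)} (hL : ∀ c ∈ L, w < c.1 ∧ D.IsPosRoot c.1) (t u : K) :
    tprod C t u L ∈ C.G.Uge (K := K) (w + 1) := by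
  refine list_prod_mem fun y hy => ?_
  obtain ⟨c, hc, rfl⟩ := List.mem_map.1 hy
  rw [dif_pos (hL c hc).2.1]
  exact C.G.xu_mem_Uge (hL c hc).1 (hL c hc).2 _

theorem tprod_hit {w : ℕ} {L : List (ℕ × ℕ × ℕ)} (hpos : ∀ c ∈ L, D.IsPosRoot c.1) (h : hitB w L = true) :
    ∃ i j : ℕ, (j = 1 ∨ j = 2) ∧ ∀ t u : K, Cong C (w + 1) (tprod C t u L) (xc C w (t ^ i * u ^ j)) := by
  unfold hitB at h
  split at h
  · rename_i c hc
    simp only [Bool.and_eq_true, Bool.or_eq_true, Nat.beq_eq] at h
    refine ⟨c.2.1, c.2.2, h.2, fun t u => ?_⟩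
    revert hc
    induction L with
    | nil => intro hc; simp at hc
    | cons x L ih =>
      intro hc
      have hx := hpos x List.mem_cons_self
      have hL : ∀ c ∈ L, D.IsPosRoot c.1 := fun c hc => hpos c (List.mem_cons_of_mem _ hc)
      have e : tprod C t u (x :: L) = xc C x.1 (t ^ x.2.1 * u ^ x.2.2) * tprod C t u L := by
        simp [tprod, xc]
      rw [e]
      by_cases hxw : x.1 ≤ w
      · rw [List.filter_cons_of_pos (by simpa [Nat.ble_eq] using hxw), List.cons.injEq] at hc
        obtain ⟨rfl, hnil⟩ := hc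
        rw [← h.1]
        refine ⟨tprod C t u L, ?_, rfl⟩
        refine tprod_above (fun c hc => ⟨?_, hL c hc⟩) t u
        by_contra hle
        have : c ∈ L.filter (fun c => Nat.ble c.1 w) := List.mem_filter.2 ⟨hc, by simpa [Nat.ble_eq] using (Nat.le_of_not_lt hle).trans_eq h.1⟩
        rw [hnil] at this
        simp at this
      · rw [List.filter_cons_of_neg (by simpa [Nat.ble_eq] using hxw)] at hc
        have hwpos : D.IsPosRoot c.1 := hL c ((List.mem_filter.1 (hc ▸ List.mem_singleton_self c :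
          c ∈ L.filter (fun c => Nat.ble c.1 w))).1)
        have hxm : xc C x.1 (t ^ x.2.1 * u ^ x.2.2) ∈ C.G.Uge (K := K) (w + 1) := by
          rw [xc, dif_pos hx.1]
          exact C.G.xu_mem_Uge (not_le.1 hxw) hx _
        have := Cong.mul (Cong.one_iff.2 hxm) (ih hL hc) (xc_mem (h.1 ▸ hwpos) _)
        rwa [one_mul] at this
  · exact absurd h Bool.false_ne_true

theorem conj_pc {m : ℕ} {s : ℕ} (hs : D.IsPosRoot s) (u : K) {W : ℕ → GL D.Idx K}
    {T : List ℕ} (hT : ∀ r ∈ T, D.IsPosRoot r) (hW : ∀ r ∈ T, W r ∈ C.G.Uge (K := K) m) (c : ℕ → K)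
    (hconj : ∀ r ∈ T, Cong C (m + 1) (xc C s u * xc C r (c r) * xc C s u) (xc C r (c r) * W r)) :
    Cong C (m + 1) (xc C s u * pc C T c * xc C s u) (pc C T c * (T.map W).prod) := by
  induction T with
  | nil =>
    simp only [pc, List.map_nil, List.prod_nil, mul_one, xc_sq]
    exact Cong.refl _ _
  | cons a T ih =>
    have hT' : ∀ r ∈ T, D.IsPosRoot r := fun r hr => hT r (List.mem_cons_of_mem _ hr)
    have hW' : ∀ r ∈ T, W r ∈ C.G.Uge (K := K) m := fun r hr => hW r (List.mem_cons_of_mem _ hr)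
    have hWT : (T.map W).prod ∈ C.G.Uge (K := K) m := list_prod_mem fun y hy => by
      obtain ⟨r, hr, rfl⟩ := List.mem_map.1 hy
      exact hW' r hr
    have e : xc C s u * pc C (a :: T) c * xc C s u =
        (xc C s u * xc C a (c a) * xc C s u) * (xc C s u * pc C T c * xc C s u) := by
      calc xc C s u * pc C (a :: T) c * xc C s u
          = xc C s u * xc C a (c a) * (xc C s u * xc C s u) * pc C T c * xc C s u := by
            rw [xc_sq]; simp [pc, mul_assoc]
        _ = _ := by group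
    rw [e]
    refine (Cong.mul (hconj a List.mem_cons_self) (ih hT' hW' fun r hr => hconj r (List.mem_cons_of_mem _ hr))
      (mul_mem (pc_mem hT' c) (C.G.Uge_mono (Nat.zero_le _) hWT))).trans ?_
    have e2 : xc C a (c a) * W a * (pc C T c * (T.map W).prod) = xc C a (c a) * (W a * pc C T c) * (T.map W).prod := by
      group
    have e3 : pc C (a :: T) c * ((a :: T).map W).prod = xc C a (c a) * (pc C T c * W a) * (T.map W).prod := by
      simp [pc, mul_assoc]
    rw [e2, e3]
    exact ((Cong.refl _ _).mul (comm_mem' (hW a List.mem_cons_self) (pc_mem hT' c))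
      (mul_mem (pc_mem hT' c) (C.G.Uge_mono (Nat.zero_le _) (hW a List.mem_cons_self)))).mul (Cong.refl _ _)
      (C.G.Uge_mono (Nat.zero_le _) hWT)

variable (h : RowsOK D f) (hk : KeysOK D)
include h hk

theorem conj_xc' {a s : ℕ} (ha : D.IsPosRoot a) (hs : D.IsPosRoot s) (t u : K) :
    xc C a t * xc C s u * xc C a t = xc C s u * tprod C t u (oddF D f a s) := by
  simp only [xc, dif_pos ha.1, dif_pos hs.1]
  exact conj_terms C h hk ha hs t u

theorem aboveB_spec {w a s : ℕ} (ha : D.IsPosRoot a) (hs : D.IsPosRoot s) (hab : aboveB w (oddF D f a s) = true)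
    (t u : K) : tprod C t u (oddF D f a s) ∈ C.G.Uge (K := K) (w + 1) :=
  tprod_above (fun c hc => ⟨by simpa [Nat.blt_eq] using allList_spec hab c hc,
    ((swap_terms C h hk (r := ⟨a, ha.1⟩) (s := ⟨s, hs.1⟩) ha hs t u).2 c hc).1⟩) t u

theorem hit_swap {w a s : ℕ} (ha : D.IsPosRoot a) (hs : D.IsPosRoot s) (hh : hitB w (oddF D f a s) = true) :
    D.IsPosRoot w ∧ a < w ∧ s < w ∧
      ∃ i j : ℕ, (j = 1 ∨ j = 2) ∧ ∀ t u : K, Cong C (w + 1) (tprod C t u (oddF D f a s)) (xc C w (t ^ i * u ^ j)) := by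
  have hT := (swap_terms C h hk (r := ⟨a, ha.1⟩) (s := ⟨s, hs.1⟩) ha hs (1 : K) 1).2
  have h1 : D.IsPosRoot w ∧ a < w ∧ s < w := by
    have hh' := hh
    unfold hitB at hh'
    split at hh'
    · rename_i c hc
      simp only [Bool.and_eq_true, Nat.beq_eq] at hh'
      have hm : c ∈ oddF D f a s := ((List.mem_filter.1 (hc ▸ List.mem_singleton_self c :
          c ∈ (oddF D f a s).filter (fun c => Nat.ble c.1 w))).1)
      obtain ⟨p1, p2, p3, -, -⟩ := hT c hm
      rw [← hh'.1]
      exact ⟨p1, p2, p3⟩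
    · exact absurd hh' Bool.false_ne_true
  exact ⟨h1.1, h1.2.1, h1.2.2, tprod_hit (fun c hc => (hT c hc).1) hh⟩

omit h hk in
/-- conjugating by the other element inverts the terms -/
theorem conj_flip {x y W : GL D.Idx K} (hx : x * x = 1) (hy : y * y = 1) (e : x * y * x = y * W) :
    y * x * y = x * W⁻¹ := by
  have hxi : x⁻¹ = x := inv_eq_of_mul_eq_one_right hx
  have hyi : y⁻¹ = y := inv_eq_of_mul_eq_one_right hy
  have : W = y * x * y * x := by
    rw [show y * x * y * x = y * (x * y * x) by group, e, ← mul_assoc, hy, one_mul]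
  rw [this]
  simp only [_root_.mul_inv_rev, hxi, hyi, ← mul_assoc, hx, one_mul]

theorem noneB_sq {w : ℕ} : ∀ T : List ℕ, (∀ r ∈ T, D.IsPosRoot r) → pairsB.noneB D f w T = true →
    ∀ c : ℕ → K, Cong C (w + 1) (pc C T c * pc C T c) 1 := by
  intro T
  induction T with
  | nil => intro _ _ c; simp only [pc, List.map_nil, List.prod_nil, mul_one]; exact Cong.refl _ _
  | cons x T ih =>
    intro hT hb c
    simp only [pairsB.noneB, Bool.and_eq_true] at hb
    have hx := hT x List.mem_cons_self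
    have hT' : ∀ r ∈ T, D.IsPosRoot r := fun r hr => hT r (List.mem_cons_of_mem _ hr)
    have hc := conj_pc (C := C) (m := w) hx (c x) (W := fun _ => 1) hT' (fun _ _ => one_mem _) c fun r hr => by
      rw [mul_one, conj_xc' h hk hx (hT' r hr)]
      exact ⟨_, aboveB_spec h hk hx (hT' r hr) (allList_spec hb.1 r hr) _ _, rfl⟩
    simp only [List.map_const', List.prod_replicate, one_pow, mul_one] at hc
    have e : pc C (x :: T) c * pc C (x :: T) c = (xc C x (c x) * pc C T c * xc C x (c x)) * pc C T c := by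
      simp [pc, mul_assoc]
    rw [e]
    exact (hc.mul (Cong.refl _ _) (pc_mem hT' c)).trans (ih hT' hb.2 c)

theorem pairsB_sq {a b w : ℕ} : ∀ T : List ℕ, (∀ r ∈ T, D.IsPosRoot r) → pairsB D f a b w T = true →
    D.IsPosRoot w ∧ ∀ c : ℕ → K, (∀ r ∈ T, c r ≠ 0) →
      ∃ e : K, e ≠ 0 ∧ Cong C (w + 1) (pc C T c * pc C T c) (xc C w e) := by
  intro T
  induction T with
  | nil => intro _ hb; simp [pairsB] at hb
  | cons x T ih =>
    intro hT hb
    have hx := hT x List.mem_cons_self
    have hT' : ∀ r ∈ T, D.IsPosRoot r := fun r hr => hT r (List.mem_cons_of_mem _ hr)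
    have e : ∀ c : ℕ → K, pc C (x :: T) c * pc C (x :: T) c =
        (xc C x (c x) * pc C T c * xc C x (c x)) * pc C T c := fun c => by simp [pc, mul_assoc]
    by_cases hxa : x = a
    · subst hxa
      simp only [pairsB, Nat.beq_refl, cond_true, Bool.and_eq_true, List.any_eq_true, Nat.beq_eq,
        decide_eq_true_eq] at hb
      obtain ⟨⟨⟨hall, y, hy, rfl⟩, hnd⟩, hnone⟩ := hb
      have hyhit : hitB w (oddF D f x b) = true := by
        have := allList_spec hall b hy
        rwa [Nat.beq_refl, cond_true] at this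
      obtain ⟨hw, -, -, i, j, -, hij⟩ := hit_swap (C := C) (K := K) h hk hx (hT' b hy) hyhit
      refine ⟨hw, fun c hc => ⟨c x ^ i * c b ^ j, mul_ne_zero (pow_ne_zero _ (hc x List.mem_cons_self))
        (pow_ne_zero _ (hc b (List.mem_cons_of_mem _ hy))), ?_⟩⟩
      set e' := c x ^ i * c b ^ j
      have hwm : xc C w e' ∈ C.G.Uge (K := K) w := by
        rw [xc, dif_pos hw.1]; exact C.G.xu_mem_Uge (r := ⟨w, hw.1⟩) (le_refl w) hw e'
      have hc' := conj_pc (C := C) (m := w) hx (c x) (W := fun r => if r = b then xc C w e' else 1) hT'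
        (fun r _ => by split; exacts [hwm, one_mem _]) c fun r hr => by
        rw [conj_xc' h hk hx (hT' r hr)]
        by_cases hrb : r = b
        · subst hrb
          rw [if_pos rfl]
          exact (Cong.refl _ _).mul (hij _ _) (xc_mem hw _)
        · rw [if_neg hrb, mul_one]
          have := allList_spec hall r hr
          rw [natBeq_false hrb, cond_false] at this
          exact ⟨_, aboveB_spec h hk hx (hT' r hr) this _ _, rfl⟩
      have hprod : (T.map fun r => if r = b then xc C w e' else 1).prod = xc C w e' := by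
        clear hc' hall hnone hT' hT e hc ih hyhit
        induction T with
        | nil => simp at hy
        | cons z T ihT =>
          rw [List.nodup_cons] at hnd
          rw [List.map_cons, List.prod_cons]
          by_cases hzb : z = b
          · subst hzb
            rw [if_pos rfl, List.prod_eq_one, mul_one]
            intro q hq
            obtain ⟨r, hr, rfl⟩ := List.mem_map.1 hq
            rw [if_neg]; intro e; exact hnd.1 (e ▸ hr)
          · rw [if_neg hzb, one_mul]
            exact ihT hnd.2 ((List.mem_cons.1 hy).resolve_left (Ne.symm hzb))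
      rw [hprod] at hc'
      rw [e c]
      refine (hc'.mul (Cong.refl _ _) (pc_mem hT' c)).trans ?_
      have h1 := (Cong.refl (w + 1) (pc C T c)).mul (comm_mem' hwm (pc_mem hT' c))
        (mul_mem (pc_mem hT' c) (xc_mem hw _))
      rw [← mul_assoc] at h1
      refine h1.trans ?_
      rw [← mul_assoc]
      have h2 := (noneB_sq h hk T hT' hnone c).mul (Cong.refl (w + 1) (xc C w e')) (xc_mem hw _)
      rwa [one_mul] at h2
    · rw [pairsB, natBeq_false hxa, cond_false, Bool.and_eq_true] at hb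
      obtain ⟨hw, ihT⟩ := ih hT' hb.2
      refine ⟨hw, fun c hc => ?_⟩
      obtain ⟨e', he', hsq⟩ := ihT c fun r hr => hc r (List.mem_cons_of_mem _ hr)
      refine ⟨e', he', ?_⟩
      have hc' := conj_pc (C := C) (m := w) hx (c x) (W := fun _ => 1) hT' (fun _ _ => one_mem _) c fun r hr => by
        rw [mul_one, conj_xc' h hk hx (hT' r hr)]
        exact ⟨_, aboveB_spec h hk hx (hT' r hr) (allList_spec hb.1 r hr) _ _, rfl⟩
      simp only [List.map_const', List.prod_replicate, one_pow, mul_one] at hc'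
      rw [e c]
      exact (hc'.mul (Cong.refl _ _) (pc_mem hT' c)).trans hsq

omit h hk in
theorem exists_root_two_pow [Finite K] (e : ℕ) (x : K) : ∃ y : K, y ^ 2 ^ e = x := by
  induction e generalizing x with
  | zero => exact ⟨x, by simp⟩
  | succ e ih =>
    obtain ⟨z, hz⟩ := (bijective_frobenius K 2).2 x
    obtain ⟨y, hy⟩ := ih z
    exact ⟨y, by rw [pow_succ, pow_mul, hy]; exact hz⟩

omit hk in
theorem scale_leaf [Finite K] {T : List ℕ} (hT : ∀ r ∈ T, D.IsPosRoot r) {mu : List (List ℤ × ℕ)}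
    (hmu : muB D f T mu = true) {c : ℕ → K} (hc : ∀ r ∈ T, c r ≠ 0) :
    ∃ x ∈ D.group K, x * pc C T c * x⁻¹ = nprod C T := by
  simp only [muB, Bool.and_eq_true, Nat.beq_eq, decide_eq_true_eq] at hmu
  obtain ⟨⟨hlen, hnd⟩, hmat⟩ := hmu
  have hch : ∀ i : ℕ, ∃ y : Kˣ, i < T.length → (y : K) ^ 2 ^ (mu.getD i ([], 0)).2 = (c (T.getD i 0))⁻¹ := fun i => by
    by_cases hi : i < T.length
    · obtain ⟨y, hy⟩ := exists_root_two_pow (mu.getD i ([], 0)).2 (c (T.getD i 0))⁻¹
      have hne : c (T.getD i 0) ≠ 0 := hc _ (by rw [List.getD_eq_getElem _ _ hi]; exact List.getElem_mem hi)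
      have hy0 : y ≠ 0 := by
        rintro rfl
        rw [zero_pow (by positivity)] at hy
        exact inv_ne_zero hne hy.symm
      exact ⟨Units.mk0 y hy0, fun _ => hy⟩
    · exact ⟨1, fun h => absurd h hi⟩
  choose y hy using hch
  let d : Fin D.rank → Kˣ := fun l => ∏ i : Fin T.length, y i.val ^ (mu.getD i.val ([], 0)).1.getD l.val 0
  refine ⟨C.G.torθ d, C.G.diagonal_le_group (C.G.diagonal_eq_range (K := K) ▸ ⟨d, rfl⟩), ?_⟩
  have key : ∀ r ∈ T, C.G.torθ d * xc C r (c r) * (C.G.torθ d)⁻¹ = xn C r := by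
    intro r hr
    obtain ⟨j, hj, rfl⟩ := List.mem_iff_getElem.1 hr
    have hrn := (hT _ hr).1
    simp only [xc, xn, dif_pos hrn]
    set q : Fin D.nroots := ⟨T[j], hrn⟩
    have htor : C.G.torθ d = C.G.tor (fun l => ∏ i, d i ^ cart D i (C.G.simp' l)) := rfl
    rw [htor, C.G.tor_conj_xu]
    congr 1
    have hchi : C.G.chi (fun l => ∏ i, d i ^ cart D i (C.G.simp' l)) (C.G.rho q) = ∏ l, d l ^ cart D l q := by
      simp only [Good.chi, ← Finset.prod_zpow, ← zpow_mul]
      rw [Finset.prod_comm]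
      refine Finset.prod_congr rfl fun i _ => ?_
      rw [C.G.cart_eq i q]
      induction (Finset.univ : Finset (Fin D.rank)) using Finset.induction with
      | empty => simp
      | insert a u ha ih => rw [Finset.prod_insert ha, Finset.sum_insert ha, zpow_add, ih, mul_comm (C.G.rho q a)]
    rw [hchi]
    have hexp : ∀ i : Fin T.length, ∑ l : Fin D.rank, (mu.getD i.val ([], 0)).1.getD l.val 0 * cart D l q =
        if i.val = j then ((2 : ℤ) ^ (mu.getD i.val ([], 0)).2) else 0 := fun i => by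
      have := intBeq_spec (allLt_spec (allLt_spec hmat i.val i.isLt) j hj)
      rw [List.getD_eq_getElem _ _ hj, muF, ← List.map_coe_finRange_eq_range, List.map_map,
        ← Fin.sum_univ_def] at this
      simp only [Function.comp_apply] at this
      rw [Finset.sum_congr rfl fun l _ => by rw [← cartF_cart h l q], this]
      by_cases hij : i.val = j
      · rw [natBeq_true hij, cond_true, if_pos hij]
      · rw [natBeq_false hij, cond_false, if_neg hij]
    have hd : ∏ l, d l ^ cart D l q = ∏ i : Fin T.length, y i.val ^ ∑ l : Fin D.rank, (mu.getD i.val ([], 0)).1.getD l.val 0 * cart D l q := by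
      simp only [d, ← Finset.prod_zpow, ← zpow_mul]
      rw [Finset.prod_comm]
      refine Finset.prod_congr rfl fun i _ => ?_
      induction (Finset.univ : Finset (Fin D.rank)) using Finset.induction with
      | empty => simp
      | insert a u ha ih => rw [Finset.prod_insert ha, Finset.sum_insert ha, zpow_add, ih]
    rw [hd, Finset.prod_eq_single (⟨j, hj⟩ : Fin T.length) (fun i _ hi => by
      rw [hexp, if_neg (fun e => hi (Fin.ext e)), zpow_zero]) (by simp), hexp, if_pos rfl,
      show ((2 : ℤ) ^ (mu.getD j ([], 0)).2) = ((2 ^ (mu.getD j ([], 0)).2 : ℕ) : ℤ) by push_cast; rfl,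
      zpow_natCast, Units.val_pow_eq_pow_val, hy j hj, List.getD_eq_getElem _ _ hj,
      inv_mul_cancel₀ (hc _ hr)]
  clear hnd hmat hlen hc hy hT
  induction T with
  | nil => simp [pc, nprod]
  | cons a T ih =>
    have hall : ∀ (U : List ℕ) (x : GL D.Idx K), (∀ r ∈ U, x * xc C r (c r) * x⁻¹ = xn C r) →
        x * pc C U c * x⁻¹ = nprod C U := by
      intro U x
      induction U with
      | nil => intro _; simp [pc, nprod]
      | cons b U ihU =>
        intro hU
        rw [nprod_cons, ← ihU fun r hr => hU r (List.mem_cons_of_mem _ hr), ← hU b List.mem_cons_self]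
        simp only [pc, List.map_cons, List.prod_cons]
        group
    exact hall _ _ key

omit h hk in
theorem commB_pairwise : ∀ T : List ℕ, commB D f T = true → T.Pairwise fun x y => oddF D f x y = [] := by
  intro T
  induction T with
  | nil => intro _; exact List.Pairwise.nil
  | cons x T ih =>
    intro hb
    simp only [commB, Bool.and_eq_true] at hb
    exact List.pairwise_cons.2 ⟨fun y hy => List.isEmpty_iff.1 (allList_spec hb.1 y hy), ih hb.2⟩

theorem clear_step [Finite K] {k r s : ℕ} {T : List ℕ} (hT : ∀ x ∈ T, D.IsPosRoot x ∧ x < k) (hkn : k < D.nroots)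
    (hkp : posB D f k = true) (hsp : posB D f s = true) (hr' : r ∈ T) (hnd : T.Nodup)
    (hall : (allList T fun a => cond (Nat.beq a r) (hitB k (oddF D f a s)) (aboveB k (oddF D f a s))) = true)
    (c : ℕ → K) (g : GL D.Idx K) (hc : ∀ x ∈ T, c x ≠ 0) (hg : Cong C k g (pc C T c)) :
    ∃ x₀ ∈ D.group K, x₀ * x₀ = 1 ∧ Cong C (k + 1) (x₀ * g * x₀) (pc C T c) := by
  have hk' := posB_spec (D := D) h hkp
  have hs := posB_spec (D := D) h hsp
  have hT' : ∀ x ∈ T, D.IsPosRoot x := fun x hx => (hT x hx).1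
  have hrhit : hitB k (oddF D f r s) = true := by
    have := allList_spec hall r hr'
    rwa [Nat.beq_refl, cond_true] at this
  obtain ⟨-, -, -, i, j, hj, hij⟩ := hit_swap (C := C) (K := K) h hk (hT' r hr') hs hrhit
  obtain ⟨v, hv, rfl⟩ := hg
  obtain ⟨d, v', hv', rfl⟩ := C.Uge_step (r := ⟨k, hkn⟩) hk' hv
  obtain ⟨u, hu⟩ : ∃ u : K, c r ^ i * u ^ j = d := by
    have hne := pow_ne_zero i (hc r hr')
    rcases hj with rfl | rfl
    · exact ⟨d / c r ^ i, by rw [pow_one, mul_div_cancel₀ _ hne]⟩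
    · obtain ⟨u, hu⟩ := (bijective_frobenius K 2).2 (d / c r ^ i)
      rw [frobenius_def] at hu
      exact ⟨u, by rw [hu, mul_div_cancel₀ _ hne]⟩
  have hkd : xc C k d = C.G.xu ⟨k, hkn⟩ d := dif_pos hkn
  have hkm : xc C k d ∈ C.G.Uge (K := K) k := by rw [hkd]; exact C.G.xu_mem_Uge (r := ⟨k, hkn⟩) (le_refl k) hk' d
  have hcj := conj_pc (C := C) (m := k) hs u (W := fun x => if x = r then xc C k d else 1) hT'
    (fun x _ => by split; exacts [hkm, one_mem _]) c fun x hx => by
    have hflip := conj_flip (xc_sq (C := C) x (c x)) (xc_sq (C := C) s u) (conj_xc' h hk (hT' x hx) hs (c x) u)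
    rw [hflip]
    by_cases hxr : x = r
    · subst hxr
      rw [if_pos rfl]
      refine (Cong.refl _ _).mul ?_ (xc_mem hk' _)
      obtain ⟨z, hz, ez⟩ := hij (c x) u
      rw [hu] at ez
      refine ⟨(xc C k d)⁻¹ * z⁻¹ * (xc C k d)⁻¹⁻¹, conj_mem (inv_mem (xc_mem hk' _)) (inv_mem hz), ?_⟩
      rw [ez]
      simp only [_root_.mul_inv_rev, xc_inv, inv_inv, ← mul_assoc, xc_sq, one_mul]
    · rw [if_neg hxr, mul_one]
      have := allList_spec hall x hx
      rw [natBeq_false hxr, cond_false] at this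
      exact ⟨_, inv_mem (aboveB_spec h hk (hT' x hx) hs this _ _), rfl⟩
  have hprod : (T.map fun x => if x = r then xc C k d else 1).prod = xc C k d := by
    clear hcj hall hT hT' hc hrhit
    induction T with
    | nil => simp at hr'
    | cons z T ihT =>
      rw [List.nodup_cons] at hnd
      rw [List.map_cons, List.prod_cons]
      by_cases hzb : z = r
      · subst hzb
        rw [if_pos rfl, List.prod_eq_one, mul_one]
        intro q hq
        obtain ⟨x, hx, rfl⟩ := List.mem_map.1 hq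
        rw [if_neg]; intro e; exact hnd.1 (e ▸ hx)
      · rw [if_neg hzb, one_mul]
        exact ihT ((List.mem_cons.1 hr').resolve_left (Ne.symm hzb)) hnd.2
  rw [hprod] at hcj
  set x₀ := xc C s u with hx₀
  refine ⟨x₀, ?_, by rw [hx₀, xc_sq], ?_⟩
  · rw [hx₀, xc, dif_pos hs.1]; exact C.G.xu_mem _ _
  ·
    have e1 : x₀ * (pc C T c * (C.G.xu ⟨k, hkn⟩ d * v')) * x₀ = (x₀ * pc C T c * x₀) * (x₀ * (xc C k d * v') * x₀) := by
      rw [hkd]
      calc x₀ * (pc C T c * (C.G.xu ⟨k, hkn⟩ d * v')) * x₀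
          = x₀ * pc C T c * (x₀ * x₀) * (C.G.xu ⟨k, hkn⟩ d * v') * x₀ := by rw [hx₀, xc_sq]; group
        _ = _ := by group
    have e2 : Cong C (k + 1) (x₀ * (xc C k d * v') * x₀) (xc C k d) := by
      have hx0m : x₀ ∈ C.G.Uge (K := K) 0 := xc_mem hs u
      have h1 := comm_mem' hkm hx0m
      obtain ⟨z, hz, ez⟩ := h1
      refine ⟨x₀ * z⁻¹ * x₀⁻¹ * (x₀ * v' * x₀⁻¹),
        mul_mem (conj_mem hx0m (inv_mem hz)) (conj_mem hx0m hv'), ?_⟩
      have hi : x₀⁻¹ = x₀ := by rw [hx₀, xc_inv]
      have e4 : x₀ * xc C k d = xc C k d * x₀ * z⁻¹ := by rw [ez]; group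
      rw [← mul_assoc x₀ (xc C k d), e4, hi]
      have h2 : x₀ * x₀ = 1 := by rw [hx₀, xc_sq]
      calc xc C k d * x₀ * z⁻¹ * v' * x₀ = xc C k d * x₀ * z⁻¹ * (x₀ * x₀) * v' * x₀ := by rw [h2, mul_one]
        _ = _ := by group
    rw [e1]
    refine (hcj.mul e2 (xc_mem hk' _)).trans ?_
    rw [mul_assoc, xc_sq, mul_one]
    exact Cong.refl _ _

theorem cj_maps (hc' : Checks D f) {A B w : List ℕ} (hA : ∀ r ∈ A, D.IsPosRoot r) (hcomm : commB D f A = true)
    (hB : ∀ r ∈ B, r < D.nroots) (hmap : mapsB D f w A B = true) :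
    Cj (nprod C (K := K) A) (nprod C B) := by
  have hAn : ∀ r ∈ A, r < D.nroots := fun r hr => (hA r hr).1
  obtain ⟨l, hl⟩ := mapsB_spec (C := C) hc' hAn hmap
  have hperm := hl (toRoots D A) (toRoots D B) (toRoots_val hAn) (toRoots_val hB)
  have h1 := cj_pw (K := K) C l (toRoots D A)
  rw [← nprod_val, toRoots_val hAn] at h1
  refine h1.trans ⟨1, one_mem _, ?_⟩
  rw [one_mul, inv_one, mul_one, ← toRoots_val hB, nprod_val]
  unfold xprod
  refine (hperm.map (fun q => C.G.xu q (1 : K))).prod_eq' ?_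
  rw [List.pairwise_map, List.pairwise_map]
  have hpw := commB_pairwise A hcomm
  rw [← toRoots_val hAn, List.pairwise_map] at hpw
  refine hpw.imp_of_mem fun {x y} hx hy hxy => ?_
  have hxA : x.val ∈ A := by rw [← toRoots_val hAn]; exact List.mem_map_of_mem hx
  have hyA : y.val ∈ A := by rw [← toRoots_val hAn]; exact List.mem_map_of_mem hy
  have h2 := (swap_terms C h hk (hA _ hxA) (hA _ hyA) (1 : K) 1).1
  rw [hxy] at h2
  simp only [tprod, List.map_nil, List.prod_nil, mul_one] at h2
  rw [← nw_conj C, ← nw_conj C]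
  show _ * _ = _ * _
  calc C.G.nw l * C.G.xu x (1 : K) * (C.G.nw l)⁻¹ * (C.G.nw l * C.G.xu y 1 * (C.G.nw l)⁻¹)
      = C.G.nw l * (C.G.xu x 1 * C.G.xu y 1) * (C.G.nw l)⁻¹ := by group
    _ = C.G.nw l * (C.G.xu y 1 * C.G.xu x 1) * (C.G.nw l)⁻¹ := by rw [h2]
    _ = _ := by group

theorem node_spec (hc' : Checks D f) [Finite K] {reps : List (List ℕ)}
    (hreps : ∀ i, ∀ r ∈ reps.getD i [], r < D.nroots) :
    ∀ (nd : Node) (k : ℕ) (T : List ℕ), nodeB D f reps nd k T = true → (∀ r ∈ T, D.IsPosRoot r ∧ r < k) →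
    ∀ (c : ℕ → K) (g : GL D.Idx K), (∀ r ∈ T, c r ≠ 0) → Cong C k g (pc C T c) → g * g = 1 →
      ∃ j < reps.length, Cj g (nprod C (reps.getD j [])) := by
  intro nd
  induction nd with
  | leaf mu word j =>
    intro k T hb hT c g hc hg _
    simp only [nodeB, Bool.and_eq_true, Nat.beq_eq, Nat.blt_eq] at hb
    obtain ⟨⟨⟨⟨rfl, hcomm⟩, hmu⟩, hj⟩, hmap⟩ := hb
    obtain ⟨v, hv, rfl⟩ := hg
    rw [C.G.Uge_top le_rfl, Subgroup.mem_bot] at hv
    subst hv
    rw [mul_one]
    refine ⟨j, hj, Cj.trans (scale_leaf h (fun r hr => (hT r hr).1) hmu hc) ?_⟩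
    exact cj_maps h hk hc' (fun r hr => (hT r hr).1) hcomm (hreps j) hmap
  | dead a b w =>
    intro k T hb hT c g hc hg hsq
    simp only [nodeB, Bool.and_eq_true, Nat.blt_eq] at hb
    obtain ⟨hwk, hp⟩ := hb
    obtain ⟨hw, hP⟩ := pairsB_sq (C := C) (K := K) h hk T (fun r hr => (hT r hr).1) hp
    obtain ⟨e, he, hPe⟩ := hP c hc
    exfalso
    have hg' := hg.mono (show w + 1 ≤ k by omega)
    have h1 := (hg'.mul hg' (pc_mem (fun r hr => (hT r hr).1) c)).trans hPe
    rw [hsq] at h1
    obtain ⟨v, hv, e'⟩ := h1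
    rw [xc, dif_pos hw.1] at e'
    exact he (C.G.lowest_unique (r := ⟨w, hw.1⟩) (t := (0 : K)) (t' := e) hw (one_mem _) hv
      (by rw [C.G.xu_zero, one_mul, ← e'])).1.symm
  | clear r s next ih =>
    intro k T hb hT c g hc hg hsq
    simp only [nodeB, Bool.and_eq_true, Nat.blt_eq, List.any_eq_true, Nat.beq_eq, decide_eq_true_eq] at hb
    obtain ⟨⟨⟨⟨⟨⟨hkn, hkp⟩, hsp⟩, ⟨r', hr', rfl⟩⟩, hnd⟩, hall⟩, hnext⟩ := hb
    obtain ⟨x₀, hx₀, hx2, hnew⟩ := clear_step (C := C) (K := K) h hk hT hkn hkp hsp hr' hnd hall c g hc hg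
    obtain ⟨jj, hjj, hres⟩ := ih (k + 1) T hnext (fun x hx => ⟨(hT x hx).1, by have := (hT x hx).2; omega⟩) c _ hc hnew
      (by calc x₀ * g * x₀ * (x₀ * g * x₀) = x₀ * g * (x₀ * x₀) * g * x₀ := by group
        _ = 1 := by rw [hx2, mul_one, mul_assoc x₀ g g, hsq, mul_one, hx2])
    refine ⟨jj, hjj, Cj.trans ⟨x₀, hx₀, ?_⟩ hres⟩
    rw [inv_eq_of_mul_eq_one_right hx2]
  | branch z nz ihz ihn =>
    intro k T hb hT c g hc hg hsq
    simp only [nodeB, Bool.and_eq_true, Nat.blt_eq] at hb
    obtain ⟨⟨⟨hkn, hkp⟩, hz⟩, hn⟩ := hb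
    have hk' := posB_spec (D := D) h hkp
    obtain ⟨v, hv, rfl⟩ := hg
    obtain ⟨d, v', hv', rfl⟩ := C.Uge_step (r := ⟨k, hkn⟩) hk' hv
    by_cases hd : d = 0
    · subst hd
      rw [C.G.xu_zero, one_mul] at hsq ⊢
      exact ihz (k + 1) T hz (fun x hx => ⟨(hT x hx).1, by have := (hT x hx).2; omega⟩) c _ hc ⟨v', hv', rfl⟩ hsq
    · refine ihn (k + 1) (T ++ [k]) hn ?_ (Function.update c k d) _ ?_ ⟨v', hv', ?_⟩ hsq
      · intro x hx
        rcases List.mem_append.1 hx with hx | hx
        · exact ⟨(hT x hx).1, by have := (hT x hx).2; omega⟩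
        · rw [List.mem_singleton.1 hx]; exact ⟨hk', by omega⟩
      · intro x hx
        rcases List.mem_append.1 hx with hx | hx
        · rw [Function.update_of_ne (by have := (hT x hx).2; omega)]; exact hc x hx
        · rw [List.mem_singleton.1 hx, Function.update_self]; exact hd
      · have e : pc C (T ++ [k]) (Function.update c k d) = pc C T c * C.G.xu ⟨k, hkn⟩ d := by
          simp only [pc, List.map_append, List.prod_append, List.map_cons, List.map_nil, List.prod_cons,
            List.prod_nil, mul_one, Function.update_self]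
          congr 1
          · congr 1
            refine List.map_congr_left fun x hx => ?_
            rw [Function.update_of_ne (by have := (hT x hx).2; omega)]
          · exact dif_pos hkn
        rw [e, mul_assoc]

end CfsgLib.Lie.CharTwo
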